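import Mathlib.LinearAlgebra.Matrix.Charpoly.Eigs
import Mathlib.FieldTheory.IsAlgClosed.Spectrum
import Mathlib.Analysis.Complex.Polynomial.Basic
import Mathlib.RingTheory.IntegralClosure.IntegrallyClosed
import Mathlib.RingTheory.Polynomial.RationalRoot
import Mathlib.Data.Real.Sqrt

/-!
Integrality of traces of matrices with `M ^ (k + 1) = M` (owner: helper8).
-/

set_option autoImplicit false

namespace CfsgLib.RankThreeInv

open Polynomial

variable {α : Type*} [Fintype α] [DecidableEq α]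

theorem root_pow_eq {M : Matrix α α ℂ} {k : ℕ} (h : M ^ (k + 1) = M) {μ : ℂ}
    (hμ : μ ∈ M.charpoly.roots) : μ ^ (k + 1) = μ := by
  have hs : μ ∈ spectrum ℂ M :=
    Matrix.mem_spectrum_iff_isRoot_charpoly.mpr (Polynomial.isRoot_of_mem_roots hμ)
  cases isEmpty_or_nonempty α with
  | inl he => simp [Matrix.charpoly_isEmpty] at hμ
  | inr hne =>
    have := spectrum.subset_polynomial_aeval M (X ^ (k + 1) - X : ℂ[X]) ⟨μ, hs, rfl⟩
    simp only [map_sub, map_pow, aeval_X, h, sub_self, spectrum.zero_eq, Set.mem_singleton_iff,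
      eval_sub, eval_pow, eval_X] at this
    exact sub_eq_zero.mp this

theorem isIntegral_trace {M : Matrix α α ℂ} {k : ℕ} (hk : k ≠ 0) (h : M ^ (k + 1) = M) :
    IsIntegral ℤ M.trace := by
  rw [Matrix.trace_eq_sum_roots_charpoly]
  refine IsIntegral.multiset_sum fun μ hμ => ?_
  refine ⟨X ^ (k + 1) - X, monic_X_pow_sub (by rw [degree_X]; exact_mod_cast (by omega : 1 < k + 1)), ?_⟩
  simp [root_pow_eq h hμ]

theorem exists_int_of_isIntegral {q : ℚ} (h : IsIntegral ℤ (q : ℂ)) : ∃ z : ℤ, q = z := by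
  have h' : IsIntegral ℤ q := by
    rw [← isIntegral_algebraMap_iff (algebraMap ℚ ℂ).injective (R := ℤ)]
    exact h
  obtain ⟨z, hz⟩ := IsIntegrallyClosed.isIntegral_iff.mp h'
  exact ⟨z, by simpa using hz.symm⟩

/-- A rational matrix with `M ^ (k + 1) = M` has an integral trace. -/
theorem trace_int {M : Matrix α α ℚ} {k : ℕ} (hk : k ≠ 0) (h : M ^ (k + 1) = M) :
    ∃ z : ℤ, M.trace = z := by
  refine exists_int_of_isIntegral ?_
  have h1 : (M.map (Rat.castHom ℂ)) ^ (k + 1) = M.map (Rat.castHom ℂ) := by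
    rw [← RingHom.mapMatrix_apply, ← map_pow, h]
  have h2 := isIntegral_trace hk h1
  have e : (M.map (Rat.castHom ℂ)).trace = ((M.trace : ℚ) : ℂ) := by
    simp [Matrix.trace, Matrix.diag, Matrix.map_apply]
  rwa [e] at h2

theorem scaled_eq {M : Matrix α α ℚ} {m : ℕ} {Δ : ℕ} (hΔ : Δ ≠ 0)
    (h : M ^ (2 * m + 1) = (Δ : ℚ) ^ m • M) :
    (((Real.sqrt Δ : ℝ) : ℂ)⁻¹ • M.map (Rat.castHom ℂ)) ^ (2 * m + 1) =
      ((Real.sqrt Δ : ℝ) : ℂ)⁻¹ • M.map (Rat.castHom ℂ) := by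
  set w : ℂ := ((Real.sqrt Δ : ℝ) : ℂ) with hw
  have hw2 : w * w = (Δ : ℂ) := by
    rw [hw, ← Complex.ofReal_mul, Real.mul_self_sqrt (Nat.cast_nonneg _), Complex.ofReal_natCast]
  have hw0 : w ≠ 0 := by
    intro e; rw [e, mul_zero] at hw2; exact hΔ (Nat.cast_eq_zero.mp hw2.symm)
  rw [smul_pow, ← RingHom.mapMatrix_apply, ← map_pow, h]
  ext i j
  simp only [RingHom.mapMatrix_apply, Matrix.smul_apply, Matrix.map_apply, map_mul, map_pow,
    map_natCast, smul_eq_mul]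
  rw [pow_succ, pow_mul, inv_pow, pow_two, hw2]
  have : (Δ : ℂ) ≠ 0 := Nat.cast_ne_zero.mpr hΔ
  rw [← mul_assoc, mul_right_comm ((Δ : ℂ)⁻¹ ^ m), ← mul_pow, inv_mul_cancel₀ this, one_pow, one_mul]

/-- `M ^ (2m+1) = Δ ^ m • M` forces `Δ` to divide the square of the trace. -/
theorem trace_sq_int {M : Matrix α α ℚ} {m : ℕ} (hm : m ≠ 0) {Δ : ℕ} (hΔ : Δ ≠ 0)
    (h : M ^ (2 * m + 1) = (Δ : ℚ) ^ m • M) : ∃ z : ℤ, M.trace * M.trace = (Δ : ℚ) * z := by
  have h1 := isIntegral_trace (k := 2 * m) (by omega) (scaled_eq hΔ h)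
  have h2 := h1.mul h1
  have e : (((Real.sqrt Δ : ℝ) : ℂ)⁻¹ • M.map (Rat.castHom ℂ)).trace *
      (((Real.sqrt Δ : ℝ) : ℂ)⁻¹ • M.map (Rat.castHom ℂ)).trace
        = (((M.trace * M.trace / Δ : ℚ)) : ℂ) := by
    have et : (M.map (Rat.castHom ℂ)).trace = ((M.trace : ℚ) : ℂ) := by
      simp [Matrix.trace, Matrix.diag, Matrix.map_apply]
    rw [Matrix.trace_smul, et, smul_eq_mul]
    push_cast
    rw [mul_mul_mul_comm, ← mul_inv, ← Complex.ofReal_mul,
      Real.mul_self_sqrt (Nat.cast_nonneg _), Complex.ofReal_natCast]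
    ring
  rw [e] at h2
  obtain ⟨z, hz⟩ := exists_int_of_isIntegral h2
  exact ⟨z, by rw [← hz]; field_simp⟩

/-- `M ^ 3 = Δ • M` with `Δ` not a square forces a zero trace. -/
theorem trace_zero_of_cube {M : Matrix α α ℚ} {Δ : ℕ} (hΔ : Δ ≠ 0)
    (hns : ¬ IsSquare Δ) (h : M ^ 3 = (Δ : ℚ) • M) : M.trace = 0 := by
  set w : ℂ := ((Real.sqrt Δ : ℝ) : ℂ) with hw
  have h' := scaled_eq (m := 1) hΔ (by simpa using h)
  have hz : ∃ z : ℤ, (w⁻¹ • M.map (Rat.castHom ℂ)).trace = z := by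
    rw [Matrix.trace_eq_sum_roots_charpoly]
    have key : ∀ μ ∈ (w⁻¹ • M.map (Rat.castHom ℂ)).charpoly.roots, μ ∈ (Int.castAddHom ℂ).range := by
      intro μ hμ
      have e := root_pow_eq (k := 2) h' hμ
      have : μ * (μ - 1) * (μ + 1) = 0 := by linear_combination e
      rcases mul_eq_zero.mp this with e1 | e1
      · rcases mul_eq_zero.mp e1 with e2 | e2
        · exact ⟨0, by simp [e2]⟩
        · exact ⟨1, by simp [sub_eq_zero.mp e2]⟩
      · exact ⟨-1, by simp [eq_neg_of_add_eq_zero_left e1]⟩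
    obtain ⟨z, hz⟩ := multiset_sum_mem _ key
    exact ⟨z, hz.symm⟩
  obtain ⟨z, hz⟩ := hz
  have et : (M.map (Rat.castHom ℂ)).trace = ((M.trace : ℚ) : ℂ) := by
    simp [Matrix.trace, Matrix.diag, Matrix.map_apply]
  rw [Matrix.trace_smul, et, smul_eq_mul] at hz
  have hw2 : w * w = (Δ : ℂ) := by
    rw [hw, ← Complex.ofReal_mul, Real.mul_self_sqrt (Nat.cast_nonneg _), Complex.ofReal_natCast]
  by_contra hne
  have hw0 : w ≠ 0 := by
    intro e; rw [e, mul_zero] at hw2; exact hΔ (Nat.cast_eq_zero.mp hw2.symm)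
  have hzw : ((M.trace : ℚ) : ℂ) = (z : ℂ) * w := by
    rw [← hz, mul_right_comm, inv_mul_cancel₀ hw0, one_mul]
  have hzsq : M.trace * M.trace = (z : ℚ) * z * Δ := by
    have : (((M.trace * M.trace : ℚ)) : ℂ) = (((z : ℚ) * z * Δ : ℚ) : ℂ) := by
      push_cast; rw [hzw, ← hw2]; ring
    exact_mod_cast this
  have hz0 : (z : ℚ) ≠ 0 := by
    intro e; rw [e, zero_mul, zero_mul] at hzsq; exact hne (mul_self_eq_zero.mp hzsq)
  apply hns
  rw [← Rat.isSquare_natCast_iff]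
  exact ⟨M.trace / z, by field_simp; linear_combination -hzsq⟩

end CfsgLib.RankThreeInv
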