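import Mathlib

/-!
The arithmetic of a rank 3 involution class (owner: helper8).
-/

set_option autoImplicit false

namespace CfsgLib.RankThreeInv.Arith

variable {P Q x y : ℤ}

theorem id_one (hv : P * Q = 1 + x * (P - 1) + y * (Q - 1)) :
    (P - 1) * (x - 1) = (Q - 1) * (P - y) := by linear_combination -hv

theorem swap_hv (hv : P * Q = 1 + x * (P - 1) + y * (Q - 1)) :
    Q * P = 1 + y * (Q - 1) + x * (P - 1) := by linear_combination hv

theorem dvd_xyP (hv : P * Q = 1 + x * (P - 1) + y * (Q - 1)) (hQ : Q ≠ 1) {TA TB : ℤ}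
    (hT : x * (P - 1) * TB = y * (Q - 1) * TA) (hB : x + y - 1 ∣ TB - y * Q)
    (hA : x + y - 1 ∣ TA - x * P) : x + y - 1 ∣ x * y * P := by
  have hQ' : Q - 1 ≠ 0 := sub_ne_zero.mpr hQ
  have e1 : x * (P - y) * TB = y * (x - 1) * TA :=
    mul_left_cancel₀ hQ' (by linear_combination (x - 1) * hT - x * TB * id_one hv)
  obtain ⟨a, ha⟩ := hB
  obtain ⟨b, hb⟩ := hA
  refine ⟨x * y - x * (P - y) * a + y * (x - 1) * b, ?_⟩
  linear_combination e1 - x * (P - y) * ha + y * (x - 1) * hb - x * y * hv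

/-- `x + y - 1` divides `x * y`. -/
theorem dvd_xy (hv : P * Q = 1 + x * (P - 1) + y * (Q - 1)) (hP : P ≠ 1) (hQ : Q ≠ 1)
    (hc : IsCoprime P Q) {TA TB : ℤ}
    (hT : x * (P - 1) * TB = y * (Q - 1) * TA) (hB : x + y - 1 ∣ TB - y * Q)
    (hA : x + y - 1 ∣ TA - x * P) : x + y - 1 ∣ x * y := by
  have h1 := dvd_xyP hv hQ hT hB hA
  have h2 := dvd_xyP (swap_hv hv) hP hT.symm (by rwa [add_comm y x]) (by rwa [add_comm y x])
  rw [add_comm y x, mul_comm y x] at h2
  obtain ⟨u, w, huw⟩ := hc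
  have : x * y = u * (x * y * P) + w * (x * y * Q) := by linear_combination -(x * y) * huw
  rw [this]
  exact dvd_add (h1.mul_left _) (h2.mul_left _)

theorem dvd_one_add (hv : P * Q = 1 + x * (P - 1) + y * (Q - 1)) (hP : P ≠ 1) {c γ : ℤ}
    (h : x * (P - 1) * (1 + c) = y * (Q - 1) * γ) : y ∣ x * (1 + c) := by
  have e : x * (y - 1) * (1 + c) = y * (Q - x) * γ :=
    mul_left_cancel₀ (sub_ne_zero.mpr hP)
      (by linear_combination (y - 1) * h + y * γ * id_one (swap_hv hv))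
  exact ⟨x * (1 + c) - (Q - x) * γ, by linear_combination -e⟩

theorem dvd_sq_mul (hv : P * Q = 1 + x * (P - 1) + y * (Q - 1)) (hP : P ≠ 1) {c γ : ℤ}
    (h : x * (P - 1) * (1 + c) = y * (Q - 1) * γ) (hN : x + y - 1 ∣ x * y) :
    x + y - 1 ∣ x * x * (c + x) := by
  obtain ⟨k, hk⟩ := dvd_one_add hv hP h
  obtain ⟨l, hl⟩ := hN
  refine ⟨x * x + (k - x) * l, ?_⟩
  linear_combination x * hk + (k - x) * hl

/-- The mixed case: `x + y - 1` divides the defect `j`. -/
theorem dvd_defect (hv : P * Q = 1 + x * (P - 1) + y * (Q - 1)) (hP : P ≠ 1) (hQ : Q ≠ 1)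
    {c c' γ γ' : ℤ} (h : x * (P - 1) * (1 + c) = y * (Q - 1) * γ)
    (h' : y * (Q - 1) * (1 + c') = x * (P - 1) * γ') (hj : c' + y = c + x)
    (hN : x + y - 1 ∣ x * y) : x + y - 1 ∣ c + x := by
  have h1 := dvd_sq_mul hv hP h hN
  have h2 := dvd_sq_mul (swap_hv hv) hQ h' (by rwa [add_comm y x, mul_comm y x])
  rw [add_comm y x, hj] at h2
  have e : c + x = (x + 3 * y) * (x * x * (c + x)) + (3 * x + y) * (y * y * (c + x)) -
      (c + x) * (((x + y - 1) ^ 2 + 3 * (x + y - 1) + 3)) * (x + y - 1) := by ring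
  rw [e]
  exact dvd_sub (dvd_add (h1.mul_left _) (h2.mul_left _)) (dvd_mul_left _ _)

/-- The pure case. -/
theorem dvd_pure (hv : P * Q = 1 + x * (P - 1) + y * (Q - 1)) (hQ : Q ≠ 1) {γ : ℤ}
    (h : x * (P - 1) * (1 + -x) = y * (Q - 1) * γ) : y ∣ x * P := by
  have e : x * (P - y) = -(y * γ) :=
    mul_left_cancel₀ (sub_ne_zero.mpr hQ) (by linear_combination -h - x * id_one hv)
  exact ⟨x - γ, by linear_combination e⟩

theorem pow_clash {p d i k : ℕ} (hp : 3 ≤ p) (h1 : d < p ^ i) (h2 : p ^ k < 2 * d)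
    (h3 : d < p ^ k) (h4 : p ^ i < 2 * d) : i = k := by
  rcases lt_trichotomy i k with h | h | h
  · have := Nat.pow_le_pow_right (by omega : 1 ≤ p) h
    rw [pow_succ] at this; nlinarith
  · exact h
  · have := Nat.pow_le_pow_right (by omega : 1 ≤ p) h
    rw [pow_succ] at this; nlinarith

theorem root_bounds {a b d : ℕ} (hd : 2 ≤ d) (ha : 0 < a) (hb : 0 < b)
    (h : d * (a + b) = a * b + 1) :
    d < a ∧ d < b ∧ (a < 2 * d ∨ b < 2 * d) ∧ a + 1 ≤ d * d + d ∧ b + 1 ≤ d * d + d := by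
  have h1 : d < a := by
    by_contra hle; push Not at hle
    have hb' : b ≤ d := by
      by_contra hh; push Not at hh
      nlinarith
    nlinarith
  have h2 : d < b := by
    by_contra hle; push Not at hle
    nlinarith
  refine ⟨h1, h2, ?_, by nlinarith, by nlinarith⟩
  by_contra hh; push Not at hh
  nlinarith [hh.1, hh.2]

theorem mixed_powers {p d i i' : ℕ} {b b' : ℕ} (hp : 2 ≤ p) (hd : 2 ≤ d) (hb : b' ∣ b)
    (ha : p ^ i < 2 * d) (ha' : 2 * d ≤ p ^ i')
    (h : d * (p ^ i + b) = p ^ i * b + 1) (h' : d * (p ^ i' + b') = p ^ i' * b' + 1)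
    (hb0 : 0 < b) (hb0' : 0 < b') : False := by
  obtain ⟨r1, -, -, -, -⟩ := root_bounds hd (by positivity) hb0 h
  obtain ⟨r1', r2', -, r4', -⟩ := root_bounds hd (by positivity) hb0' h'
  have hii : i < i' := by
    by_contra hle; push Not at hle
    have := Nat.pow_le_pow_right (by omega : 1 ≤ p) hle
    omega
  obtain ⟨e, rfl⟩ := Nat.exists_eq_add_of_le hii.le
  have he : 2 ≤ p ^ e := le_trans hp (Nat.le_self_pow (by omega) p)
  rw [pow_add] at h' r4' r1'
  generalize p ^ i = a at *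
  generalize p ^ e = w at *
  obtain ⟨k, hk⟩ := hb
  have hdvd : (b' : ℤ) ∣ (w : ℤ) - 1 := by
    refine ⟨(a * w - d : ℤ) - (w - 1 : ℤ) * 0 - (k : ℤ) * w * (a - d : ℤ), ?_⟩
    have hz : (d : ℤ) * (a + b) = a * b + 1 := by exact_mod_cast h
    have hz' : (d : ℤ) * (a * w + b') = a * w * b' + 1 := by exact_mod_cast h'
    have hkz : (b : ℤ) = b' * k := by exact_mod_cast hk
    linear_combination hz' - (w : ℤ) * hz + ((w : ℤ) * (d - a)) * hkz
  have hle := Int.le_of_dvd (by omega) hdvd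
  have h3 : d + 2 ≤ w := by omega
  nlinarith

/-- The only solutions are the imprimitive ones. -/
theorem classify {p q α β x y : ℕ} (hp : p.Prime) (hq : q.Prime) (hp3 : 3 ≤ p) (hq3 : 3 ≤ q)
    (hα : Odd α) (hβ : Odd β) (hx : 0 < x) (hy : 0 < y)
    (hv : (p ^ α : ℤ) * q ^ β = 1 + x * (p ^ α - 1) + y * (q ^ β - 1))
    (hN : (x : ℤ) + y - 1 ∣ x * y) (hyx : (y : ℤ) ∣ x * p ^ α) (hxy : (x : ℤ) ∣ y * q ^ β) :
    x = 1 ∧ y = p ^ α ∨ x = q ^ β ∧ y = 1 := by
  obtain ⟨b, a, hcop, hxd, hyd⟩ := Nat.exists_coprime x y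
  generalize hd : Nat.gcd x y = d at hxd hyd
  have hd0 : 0 < d := hd ▸ Nat.gcd_pos_of_pos_left _ hx
  subst hxd; subst hyd
  have hb0 : 0 < b := Nat.pos_of_mul_pos_right hx
  have ha0 : 0 < a := Nat.pos_of_mul_pos_right hy
  have haP : a ∣ p ^ α := by
    have h : a * d ∣ b * d * p ^ α := by exact_mod_cast hyx
    rw [mul_right_comm b d] at h
    exact Nat.Coprime.dvd_of_dvd_mul_left hcop.symm (Nat.dvd_of_mul_dvd_mul_right hd0 h)
  have hbQ : b ∣ q ^ β := by
    have h : b * d ∣ a * d * q ^ β := by exact_mod_cast hxy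
    rw [mul_right_comm a d] at h
    exact Nat.Coprime.dvd_of_dvd_mul_left hcop (Nat.dvd_of_mul_dvd_mul_right hd0 h)
  obtain ⟨i, hiα, rfl⟩ := (Nat.dvd_prime_pow hp).mp haP
  obtain ⟨j, hjβ, rfl⟩ := (Nat.dvd_prime_pow hq).mp hbQ
  obtain ⟨i', rfl⟩ := Nat.exists_eq_add_of_le hiα
  obtain ⟨j', rfl⟩ := Nat.exists_eq_add_of_le hjβ
  push_cast [pow_add] at hv hN ⊢
  set N : ℤ := (q : ℤ) ^ j * d + (p : ℤ) ^ i * d - 1 with hNdef
  set M : ℤ := (d : ℤ) * p ^ i' + d * q ^ j' - p ^ i' * q ^ j' with hMdef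
  have hNM : N = (p : ℤ) ^ i * q ^ j * M := by
    rw [hNdef, hMdef]; linear_combination hv
  have hN1 : 1 ≤ (p : ℤ) ^ i * d ∧ 1 ≤ (q : ℤ) ^ j * d := by
    constructor <;> exact_mod_cast Nat.mul_pos (by positivity) hd0
  have hNpos : 0 < N := by rw [hNdef]; omega
  have hab : N ∣ (p : ℤ) ^ i * q ^ j := by
    have hcd : IsCoprime N ((d : ℤ) ^ 2) := by
      refine IsCoprime.pow_right ?_
      exact ⟨-1, (q : ℤ) ^ j + p ^ i, by rw [hNdef]; ring⟩
    refine hcd.dvd_of_dvd_mul_left ?_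
    have e : (d : ℤ) ^ 2 * ((p : ℤ) ^ i * q ^ j) =
        (q : ℤ) ^ j * d * ((p : ℤ) ^ i * d) := by ring
    rw [e]; exact hN
  have hM1 : M = 1 := by
    obtain ⟨t, ht⟩ := hab
    have hne : (p : ℤ) ^ i * q ^ j ≠ 0 := by
      have := hp.pos; have := hq.pos; positivity
    have h1 : M * t = 1 := by
      apply mul_left_cancel₀ hne
      rw [mul_one]; nth_rewrite 2 [ht]; rw [hNM]; ring
    have hMpos : 0 < M := by
      have : 0 < (p : ℤ) ^ i * q ^ j := by have := hp.pos; have := hq.pos; positivity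
      exact pos_of_mul_pos_right (hNM ▸ hNpos) this.le
    exact Int.eq_one_of_mul_eq_one_right hMpos.le h1
  have e1 : d * (p ^ i + q ^ j) = p ^ i * q ^ j + 1 := by
    have : (d : ℤ) * (p ^ i + q ^ j) = p ^ i * q ^ j + 1 := by
      rw [hM1, mul_one, hNdef] at hNM
      linear_combination hNM
    exact_mod_cast this
  have e2 : d * (p ^ i' + q ^ j') = p ^ i' * q ^ j' + 1 := by
    have : (d : ℤ) * (p ^ i' + q ^ j') = p ^ i' * q ^ j' + 1 := by
      rw [hMdef] at hM1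
      linear_combination hM1
    exact_mod_cast this
  have hne : i ≠ i' := fun e => by subst e; rw [Nat.odd_iff] at hα; omega
  have hne' : j ≠ j' := fun e => by subst e; rw [Nat.odd_iff] at hβ; omega
  rcases Nat.eq_or_lt_of_le hd0 with hd1 | hd2
  · subst hd1
    have c1 : p ^ i = 1 ∨ q ^ j = 1 := by
      by_contra hh; push Not at hh
      obtain ⟨A, hA⟩ : ∃ A, p ^ i = A + 2 := ⟨p ^ i - 2, by have := Nat.one_le_pow i p hp.pos; omega⟩
      obtain ⟨B, hB⟩ : ∃ B, q ^ j = B + 2 := ⟨q ^ j - 2, by have := Nat.one_le_pow j q hq.pos; omega⟩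
      rw [hA, hB] at e1
      simp only [Nat.succ_eq_add_one, zero_add, one_mul] at e1
      nlinarith
    have c2 : p ^ i' = 1 ∨ q ^ j' = 1 := by
      by_contra hh; push Not at hh
      obtain ⟨A, hA⟩ : ∃ A, p ^ i' = A + 2 := ⟨p ^ i' - 2, by have := Nat.one_le_pow i' p hp.pos; omega⟩
      obtain ⟨B, hB⟩ : ∃ B, q ^ j' = B + 2 := ⟨q ^ j' - 2, by have := Nat.one_le_pow j' q hq.pos; omega⟩
      rw [hA, hB] at e2
      simp only [Nat.succ_eq_add_one, zero_add, one_mul] at e2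
      nlinarith
    simp only [Nat.pow_eq_one, hp.ne_one, hq.ne_one, false_or] at c1 c2
    rcases c1 with rfl | rfl <;> rcases c2 with rfl | rfl
    · exact absurd rfl hne
    · right; simp [pow_zero]
    · left; simp [pow_zero]
    · exact absurd rfl hne'
  · exfalso
    obtain ⟨a1, b1, m1, -, -⟩ := root_bounds hd2 (pow_pos hp.pos i) (pow_pos hq.pos j) e1
    obtain ⟨a2, b2, m2, -, -⟩ := root_bounds hd2 (pow_pos hp.pos i') (pow_pos hq.pos j') e2
    rcases m1 with m1 | m1 <;> rcases m2 with m2 | m2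
    · exact hne (pow_clash hp3 a1 m2 a2 m1)
    · have hbig : 2 * d ≤ p ^ i' := by
        by_contra hh; exact hne (pow_clash hp3 a1 (by omega) a2 m1)
      have hjj : j' ≤ j := by
        by_contra hh; push Not at hh
        have := Nat.pow_le_pow_right hq.pos hh.le
        exact hne' (pow_clash hq3 b1 m2 b2 (by omega))
      exact mixed_powers hp.two_le hd2 (pow_dvd_pow q hjj) m1 hbig e1 e2
        (pow_pos hq.pos j) (pow_pos hq.pos j')
    · have hbig : 2 * d ≤ q ^ j' := by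
        by_contra hh; exact hne' (pow_clash hq3 b1 (by omega) b2 m1)
      have hii : i' ≤ i := by
        by_contra hh; push Not at hh
        have := Nat.pow_le_pow_right hp.pos hh.le
        exact hne (pow_clash hp3 a1 m2 a2 (by omega))
      refine mixed_powers hq.two_le hd2 (pow_dvd_pow p hii) m1 hbig ?_ ?_
        (pow_pos hp.pos i) (pow_pos hp.pos i')
      · rw [add_comm, mul_comm (q ^ j)]; exact e1
      · rw [add_comm, mul_comm (q ^ j')]; exact e2
    · exact hne' (pow_clash hq3 b1 m2 b2 m1)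

end CfsgLib.RankThreeInv.Arith
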