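import Mathlib
import Cfsg.Agent.Lib.Signalizer.Involutions
import Cfsg.Agent.Lib.Components.Radicals

/-!
Generating classes of involutions with no normal solvable subgroup: elementary facts, and the
counting lemma for midpoints (owner: helper8).
-/

set_option autoImplicit false

namespace CfsgLib.RankThreeInv

open CfsgLib.Signalizer

/-- A generating class of involutions in a group without normal solvable subgroups. -/
structure Setup {G : Type*} [Group G] (D : Set G) : Prop where
  inv : ∀ d ∈ D, orderOf d = 2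
  conj : ∀ g : G, ∀ d ∈ D, g * d * g⁻¹ ∈ D
  trans : ∀ d ∈ D, ∀ e ∈ D, ∃ g : G, g * d * g⁻¹ = e
  gen : Subgroup.closure D = ⊤
  sol : ∀ N : Subgroup G, N.Normal → Group.IsSolvable ↥N → N = ⊥

variable {G : Type*} [Group G]

section Inv

variable {x y : G}

theorem mul_mul_self (hx : orderOf x = 2) (a : G) : x * (x * a) = a := by
  rw [← mul_assoc, involution_sq hx, one_mul]

theorem conj_eq (hx : orderOf x = 2) (a : G) : x * a * x⁻¹ = x * a * x := by rw [involution_inv hx]

theorem mul_conj_self (x y : G) : x * (y * x * y) = (x * y) ^ 2 := by rw [pow_two]; group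

theorem commute_iff (hx : orderOf x = 2) : Commute x y ↔ x * y * x = y := by
  constructor
  · intro h; rw [h.eq, mul_assoc, involution_sq hx, mul_one]
  · intro h
    have := congrArg (· * x) h
    simp only [mul_assoc, involution_sq hx, mul_one] at this
    exact this

theorem commute_iff_sq (hx : orderOf x = 2) (hy : orderOf y = 2) :
    Commute x y ↔ (x * y) ^ 2 = 1 := by
  rw [pow_two]
  constructor
  · intro h; nth_rewrite 2 [h.eq]; rw [mul_assoc, mul_mul_self hy, involution_sq hx]
  · intro h
    have h1 := eq_inv_of_mul_eq_one_left h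
    rwa [mul_inv_rev, involution_inv hx, involution_inv hy] at h1

theorem ne_one_of_not_commute (hy : orderOf y = 2) (h : ¬ Commute x y) : x * y ≠ 1 :=
  fun e => h (by rw [eq_inv_of_mul_eq_one_left e]; exact (Commute.refl y).inv_left)

theorem inj_conj [Finite G] {e m m' : G} (h1 : Odd (orderOf (e * m))) (h2 : Odd (orderOf (e * m')))
    (h : m * e * m = m' * e * m') : m = m' := by
  have hsq : (e * m) ^ 2 = (e * m') ^ 2 := by rw [← mul_conj_self, ← mul_conj_self, h]
  have key : ∀ z : G, Odd (orderOf z) → z = (z ^ 2) ^ ((orderOf (z ^ 2) + 1) / 2) := by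
    intro z hz
    rw [Nat.Coprime.orderOf_pow (Nat.coprime_two_right.mpr hz), ← pow_mul,
      Nat.mul_div_cancel' hz.add_one.two_dvd, pow_add, pow_orderOf_eq_one, one_mul,
      pow_one]
  have e1 := key _ h1
  rw [hsq, ← key _ h2] at e1
  exact mul_left_cancel e1

theorem orderOf_mul_conj (h : Odd (orderOf (x * y))) :
    orderOf (x * (y * x * y)) = orderOf (x * y) := by
  rw [mul_conj_self, Nat.Coprime.orderOf_pow (Nat.coprime_two_right.mpr h)]

end Inv

namespace Setup

variable {D : Set G} (S : Setup D)
include S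

theorem conj' {d e : G} (hd : d ∈ D) (he : e ∈ D) : d * e * d ∈ D := by
  have := S.conj d e he
  rwa [involution_inv (S.inv d hd)] at this

theorem pow_mem {x u : G} (hx : x ∈ D) (hu : u ∈ D) : ∀ i : ℕ, x * (x * u) ^ i ∈ D := by
  intro i
  induction i using Nat.twoStepInduction with
  | zero => simpa using hx
  | one => rw [pow_one, mul_mul_self (S.inv x hx)]; exact hu
  | more i ih _ =>
    have h := S.conj (x * u)⁻¹ _ ih
    convert h using 1
    rw [mul_inv_rev, involution_inv (S.inv x hx), involution_inv (S.inv u hu), mul_inv_rev,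
      involution_inv (S.inv x hx), involution_inv (S.inv u hu)]
    rw [pow_add, pow_two]
    simp only [mul_assoc]
    rw [mul_mul_self (S.inv x hx)]
    have : (x * u) ^ i * (x * (u * (x * u))) = x * (u * ((x * u) ^ i * (x * u))) := by
      rw [← mul_assoc x u, ← mul_assoc x u, ← mul_assoc, ((Commute.refl (x * u)).pow_left i).eq,
        mul_assoc, ((Commute.refl (x * u)).pow_left i).eq]
    rw [this, mul_mul_self (S.inv x hx)]

theorem center_eq_bot : Subgroup.center G = ⊥ :=
  S.sol _ inferInstance (Group.isSolvable_of_comm fun a b =>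
    Subtype.ext (Subgroup.mem_center_iff.mp b.2 a))

theorem not_central {d : G} (hd : d ∈ D) (h : ∀ e ∈ D, Commute d e) : False := by
  have hc : d ∈ Subgroup.center G := by
    rw [Subgroup.mem_center_iff]
    intro g
    have hle : Subgroup.closure D ≤ Subgroup.centralizer {d} := by
      rw [Subgroup.closure_le]
      exact fun e he => Subgroup.mem_centralizer_singleton_iff.mpr (h e he).eq.symm
    exact Subgroup.mem_centralizer_singleton_iff.mp (hle (by rw [S.gen]; exact Subgroup.mem_top g))
  rw [S.center_eq_bot, Subgroup.mem_bot] at hc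
  exact involution_ne_one (S.inv d hd) hc

theorem pgroup_normal_bot [Finite G] {p : ℕ} [Fact p.Prime] {N : Subgroup G} (hN : N.Normal)
    (h : IsPGroup p N) : N = ⊥ :=
  haveI := h.isNilpotent
  S.sol N hN inferInstance

theorem pCore_eq_bot [Finite G] (p : ℕ) [Fact p.Prime] : Cfsg.pCore p G = ⊥ :=
  S.pgroup_normal_bot (Components.pCore_normal p) (Components.pCore_isPGroup p)

/-- A `p`-subgroup normal in a normal subgroup is trivial. -/
theorem eq_bot_of_normal_in [Finite G] {p : ℕ} [Fact p.Prime] {K U : Subgroup G} (hK : K.Normal)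
    (hUK : U ≤ K) (hU : IsPGroup p U) (hn : ∀ k ∈ K, ∀ u ∈ U, k * u * k⁻¹ ∈ U) : U = ⊥ := by
  haveI := hK
  haveI : (U.subgroupOf K).Normal := ⟨fun u hu k => by
    rw [Subgroup.mem_subgroupOf] at hu ⊢
    simpa using hn k k.2 u hu⟩
  haveI := hK.isSubnormal
  have hsn : U.IsSubnormal := Subgroup.IsSubnormal.trans hUK
    (Subgroup.Normal.isSubnormal inferInstance) hK.isSubnormal
  have := Components.subnormal_pGroup_le_pCore hsn hU
  rwa [S.pCore_eq_bot p, le_bot_iff] at this

end Setup

/-- The counting lemma: if `E` is an equivalence respected by the involutions `f z` and the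
unrelated pairs are all alike, then related points act alike. -/
theorem block_lemma {α : Type*} [Finite α] (f : α → α → α) (E : α → α → Prop)
    (hE : Equivalence E)
    (hpres : ∀ z a b, E a b → E (f z a) (f z b))
    (hmove : ∀ z a, ¬ E z a → ¬ E a (f z a))
    (hfix : ∀ z a, E z a → E a (f z a))
    (hinj : ∀ z z' a, ¬ E z a → ¬ E z' a → f z a = f z' a → z = z')
    (htrans : ∀ z z' w w', ¬ E z z' → ¬ E w w' → ∃ σ : α ≃ α,
      (∀ a b, E (σ a) (σ b) ↔ E a b) ∧ (∀ a b, σ (f a b) = f (σ a) (σ b)) ∧ σ z = w ∧ σ z' = w') :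
    ∀ z z' a, E z z' → E (f z a) (f z' a) := by
  classical
  intro m m' e hmm'
  by_cases hem : E m e
  · exact hE.trans (hE.symm (hfix m e hem)) (hfix m' e (hE.trans (hE.symm hmm') hem))
  cases nonempty_fintype α
  let blk : α → Finset α := fun a => Finset.univ.filter (E a)
  set s := (blk m).card with hs
  have hblk : ∀ a, (blk a).card = s := by
    intro a
    obtain ⟨b, hb⟩ : ∃ b, ¬ E a b := by
      by_contra h
      push Not at h
      exact hem (hE.trans (hE.symm (h m)) (h e))
    obtain ⟨σ, hσE, -, hσ, -⟩ := htrans a b m e hb hem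
    refine Finset.card_bij (fun c _ => σ c) ?_ ?_ ?_
    · intro c hc
      simp only [blk, Finset.mem_filter, Finset.mem_univ, true_and] at hc ⊢
      rw [← hσ]; exact (hσE _ _).mpr hc
    · intro c _ c' _ h; exact σ.injective h
    · intro c hc
      simp only [blk, Finset.mem_filter, Finset.mem_univ, true_and] at hc ⊢
      refine ⟨σ.symm c, ?_, σ.apply_symm_apply c⟩
      rw [← hσE, hσ, σ.apply_symm_apply]; exact hc
  have himg : ∀ a y, ¬ E a y → ∃ z, ¬ E z a ∧ f z a = y := by
    intro a y hy
    let T := Finset.univ.filter fun z => ¬ E a z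
    have : T.image (fun z => f z a) = T := by
      refine Finset.eq_of_subset_of_card_le ?_ (le_of_eq ?_)
      · intro c hc
        simp only [T, Finset.mem_image, Finset.mem_filter, Finset.mem_univ, true_and] at hc ⊢
        obtain ⟨z, hz, rfl⟩ := hc
        exact hmove z a fun h => hz (hE.symm h)
      · refine (Finset.card_image_of_injOn fun z hz z' hz' h => ?_).symm
        simp only [T, Finset.coe_filter, Finset.mem_univ, true_and, Set.mem_setOf_eq] at hz hz'
        exact hinj z z' a (fun h' => hz (hE.symm h')) (fun h' => hz' (hE.symm h')) h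
    have hy' : y ∈ T.image (fun z => f z a) := by rw [this]; simp [T, hy]
    simp only [T, Finset.mem_image, Finset.mem_filter, Finset.mem_univ, true_and] at hy'
    obtain ⟨z, hz, rfl⟩ := hy'
    exact ⟨z, fun h => hz (hE.symm h), rfl⟩
  -- no unrelated pair has related images
  let F : α × α → Finset α := fun zz => Finset.univ.filter fun a =>
    ¬ E zz.1 a ∧ ¬ E zz.2 a ∧ E (f zz.1 a) (f zz.2 a)
  have hF : ∀ z z', ¬ E z z' → F (z, z') = ∅ := by
    intro z z' hzz'
    by_contra hne
    obtain ⟨a₀, ha₀⟩ := Finset.nonempty_iff_ne_empty.mpr hne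
    let P : Finset (α × α) := Finset.univ.filter fun q => ¬ E q.1 q.2
    have hconst : ∀ q ∈ P, (F q).card = (F (z, z')).card := by
      rintro ⟨w, w'⟩ hq
      simp only [P, Finset.mem_filter, Finset.mem_univ, true_and] at hq
      obtain ⟨σ, hσE, hσf, rfl, rfl⟩ := htrans z z' w w' hzz' hq
      refine (Finset.card_bij (fun c _ => σ c) ?_ ?_ ?_).symm
      · intro c hc
        simp only [F, Finset.mem_filter, Finset.mem_univ, true_and, hσE, ← hσf] at hc ⊢
        exact hc
      · intro c _ c' _ h; exact σ.injective h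
      · intro c hc
        refine ⟨σ.symm c, ?_, σ.apply_symm_apply c⟩
        obtain ⟨d, rfl⟩ := σ.surjective c
        simp only [F, Finset.mem_filter, Finset.mem_univ, true_and, hσE, ← hσf,
          σ.symm_apply_apply] at hc ⊢
        exact hc
    have hbig : s ≤ (F (z, z')).card := by
      rw [← hblk a₀]
      refine Finset.card_le_card fun b hb => ?_
      simp only [F, blk, Finset.mem_filter, Finset.mem_univ, true_and] at ha₀ hb ⊢
      exact ⟨fun h => ha₀.1 (hE.trans h (hE.symm hb)), fun h => ha₀.2.1 (hE.trans h (hE.symm hb)),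
        hE.trans (hE.trans (hE.symm (hpres z a₀ b hb)) ha₀.2.2) (hpres z' a₀ b hb)⟩
    let R : Finset ((α × α) × α) :=
      (Finset.univ : Finset ((α × α) × α)).filter fun q => q.1 ∈ P ∧ q.2 ∈ F q.1
    let U : Finset ((α × α) × α) := Finset.univ.filter fun q =>
      ¬ E q.2 q.1.1 ∧ E q.1.1 q.1.2 ∧ q.1.2 ≠ q.1.1
    have hR : R.card = P.card * (F (z, z')).card := by
      rw [← smul_eq_mul, ← Finset.sum_const, ← Finset.sum_congr rfl hconst, ← Finset.card_sigma]
      refine Finset.card_bij (fun q _ => ⟨q.1, q.2⟩) ?_ ?_ ?_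
      · intro q hq
        simp only [R, Finset.mem_filter] at hq
        exact Finset.mem_sigma.mpr hq.2
      · intro q _ q' _ h
        simp only [Sigma.mk.injEq, heq_eq_eq] at h
        exact Prod.ext h.1 h.2
      · rintro ⟨q, c⟩ hc
        exact ⟨(q, c), by simpa [R] using Finset.mem_sigma.mp hc, rfl⟩
    have hU : U.card = P.card * (s - 1) := by
      rw [← smul_eq_mul, ← Finset.sum_const]
      have : ∀ q ∈ P, ((blk q.2).erase q.2).card = s - 1 := fun q _ => by
        rw [Finset.card_erase_of_mem (by simp [blk, hE.refl]), hblk]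
      rw [← Finset.sum_congr rfl this, ← Finset.card_sigma]
      refine Finset.card_bij (fun q _ => ⟨(q.2, q.1.1), q.1.2⟩) ?_ ?_ ?_
      · intro q hq
        simp only [U, Finset.mem_filter] at hq
        simpa [P, blk, Finset.mem_sigma] using ⟨hq.2.1, hq.2.2.2, hq.2.2.1⟩
      · intro q _ q' _ h
        simp only [Sigma.mk.injEq, Prod.mk.injEq, heq_eq_eq] at h
        exact Prod.ext (Prod.ext h.1.2 h.2) h.1.1
      · rintro ⟨⟨a, y⟩, y'⟩ hc
        refine ⟨((y, y'), a), ?_, rfl⟩
        simp only [P, blk, Finset.mem_sigma, Finset.mem_filter, Finset.mem_univ, true_and,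
          Finset.mem_erase] at hc
        simp only [U, Finset.mem_filter, Finset.mem_univ, true_and]
        exact ⟨hc.1, hc.2.2, hc.2.1⟩
    have hle : R.card ≤ U.card := by
      refine Finset.card_le_card_of_injOn (fun q => ((f q.1.1 q.2, f q.1.2 q.2), q.2)) ?_ ?_
      · intro q hq
        simp only [R, F, P, U, Finset.coe_filter, Finset.mem_univ, true_and, Set.mem_setOf_eq,
          Finset.mem_filter] at hq ⊢
        exact ⟨hmove _ _ hq.2.1, hq.2.2.2, fun h =>
          hq.1 (hinj _ _ _ hq.2.2.1 hq.2.1 h ▸ hE.refl _)⟩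
      · intro q hq q' hq' h
        simp only [R, F, Finset.coe_filter, Finset.mem_univ, true_and, Set.mem_setOf_eq,
          Finset.mem_filter] at hq hq'
        simp only [Prod.mk.injEq] at h
        obtain ⟨⟨h1, h2⟩, h3⟩ := h
        rw [← h3] at h1 h2 hq'
        exact Prod.ext (Prod.ext (hinj _ _ _ hq.2.1 hq'.2.1 h1) (hinj _ _ _ hq.2.2.1 hq'.2.2.1 h2)) h3
    have hP : 0 < P.card := Finset.card_pos.mpr ⟨(z, z'), by simpa [P] using hzz'⟩
    have hs0 : 0 < s := Finset.card_pos.mpr ⟨m, by simp [blk, hE.refl]⟩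
    rw [hR, hU] at hle
    have := Nat.le_of_mul_le_mul_left hle hP
    omega
  set y := f m e with hy
  have hey : ¬ E e y := hmove m e hem
  have key : ∀ y', E y y' → ∃ z, E m z ∧ ¬ E z e ∧ f z e = y' := by
    intro y' hyy'
    obtain ⟨z, hz, rfl⟩ := himg e y' fun h => hey (hE.trans h (hE.symm hyy'))
    refine ⟨z, ?_, hz, rfl⟩
    by_contra hmz
    have := hF m z hmz
    rw [Finset.eq_empty_iff_forall_notMem] at this
    exact this e (by simp [F, hem, hz, hy ▸ hyy'])
  choose g hg1 hg2 hg3 using key
  have hsurj := Finset.surj_on_of_inj_on_of_card_le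
    (s := blk y) (t := blk m) (fun c hc => g c (by simpa [blk] using hc))
    (fun c hc => by simpa [blk] using hg1 _ _)
    (fun c c' hc hc' h => by
      have e1 := hg3 c (by simpa [blk] using hc)
      rw [h, hg3 c' (by simpa [blk] using hc')] at e1
      exact e1.symm)
    (le_of_eq (by rw [hblk, hblk])) m' (by simpa [blk] using hmm')
  obtain ⟨c, hc, hgc⟩ := hsurj
  rw [hgc, hg3]
  simpa [blk, hy] using hc

end CfsgLib.RankThreeInv
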