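import Cfsg.Agent.Lib.RankThreeInv.Basic
import Cfsg.Agent.Lib.Core.Coprime
import Cfsg.Agent.Lib.Core.Cores
import Cfsg.Prelude.Def_CaseTheorems

/-!
An involution of the class whose commutators with an odd normal subgroup have prime power order
centralises it (owner: helper8).
-/

set_option autoImplicit false

namespace CfsgLib.RankThreeInv

open CfsgLib.Signalizer

variable {G : Type*} [Group G]

theorem card_conj_mul [Finite G] (H : Subgroup G) (x : G) :
    ((fun h => h * x * h⁻¹) '' (H : Set G)).ncard *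
      Nat.card (H ⊓ Subgroup.centralizer {x} : Subgroup G) = Nat.card H := by
  classical
  cases nonempty_fintype G
  let T : Finset G := Finset.univ.filter (· ∈ H)
  have hT : Nat.card H = T.card := by
    rw [Nat.card_eq_fintype_card, Fintype.card_subtype]
  have hfib : ∀ y ∈ T.image (fun h => h * x * h⁻¹),
      (T.filter fun h => h * x * h⁻¹ = y).card =
        Nat.card (H ⊓ Subgroup.centralizer {x} : Subgroup G) := by
    intro y hy
    simp only [T, Finset.mem_image, Finset.mem_filter, Finset.mem_univ, true_and] at hy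
    obtain ⟨h₀, hh₀, rfl⟩ := hy
    rw [Nat.card_eq_fintype_card, Fintype.card_subtype]
    refine (Finset.card_bij (fun c _ => h₀ * c) ?_ (fun a _ b _ e => mul_left_cancel e) ?_).symm
    · intro c hc
      simp only [Finset.mem_filter, Finset.mem_univ, true_and, Subgroup.mem_inf,
        Subgroup.mem_centralizer_singleton_iff] at hc
      simp only [T, Finset.mem_filter, Finset.mem_univ, true_and]
      refine ⟨mul_mem hh₀ hc.1, ?_⟩
      rw [mul_inv_rev, show h₀ * c * x * (c⁻¹ * h₀⁻¹) = h₀ * (c * x * c⁻¹) * h₀⁻¹ by group]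
      rw [hc.2, mul_inv_cancel_right]
    · intro h hh
      simp only [T, Finset.mem_filter, Finset.mem_univ, true_and] at hh
      refine ⟨h₀⁻¹ * h, ?_, by group⟩
      simp only [Finset.mem_filter, Finset.mem_univ, true_and, Subgroup.mem_inf,
        Subgroup.mem_centralizer_singleton_iff]
      refine ⟨mul_mem (inv_mem hh₀) hh.1, ?_⟩
      have e : h₀⁻¹ * (h * x * h⁻¹) * h₀ = x := by rw [hh.2]; group
      calc h₀⁻¹ * h * x = h₀⁻¹ * (h * x * h⁻¹) * h₀ * (h₀⁻¹ * h) := by group
        _ = x * (h₀⁻¹ * h) := by rw [e]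
  rw [hT, Finset.card_eq_sum_card_image (fun h => h * x * h⁻¹) T, Finset.sum_congr rfl hfib,
    Finset.sum_const, smul_eq_mul]
  congr 1
  rw [← Set.ncard_coe_finset, Finset.coe_image]
  simp [T]

/-- An invariant Sylow subgroup of an odd normal subgroup. -/
theorem exists_sylow_conj_mem [Finite G] {K : Subgroup G} (hK : K.Normal) (hodd : Odd (Nat.card K))
    {x : G} (hx : orderOf x = 2) (r : ℕ) [Fact r.Prime] :
    ∃ P : Subgroup G, P ≤ K ∧ IsPGroup r P ∧ Nat.card P = r ^ (Nat.card K).factorization r ∧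
      ∀ u ∈ P, x * u * x ∈ P := by
  haveI := hK
  have hA : Nat.card (Subgroup.zpowers x) = 2 := by rw [Nat.card_zpowers, hx]
  obtain ⟨P, hP⟩ := CfsgLib.Core.exists_invariant_sylow (A := Subgroup.zpowers x) (K := K)
    (by rw [Subgroup.normalizer_eq_top_iff.mpr hK]; exact le_top)
    (by rw [hA]; exact Nat.coprime_two_left.mpr hodd)
    (Or.inl (Group.isSolvable_of_comm fun a b => Std.Commutative.comm a b)) r
  refine ⟨(P : Subgroup K).map K.subtype, Subgroup.map_subtype_le _, P.isPGroup'.map _, ?_, ?_⟩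
  · rw [Nat.card_congr (Subgroup.equivMapOfInjective _ _ K.subtype_injective).toEquiv.symm,
      Sylow.card_eq_multiplicity]
  · intro u hu
    have := (Subgroup.mem_normalizer_iff.mp (hP (Subgroup.mem_zpowers x)) u).mp hu
    rwa [involution_inv hx] at this

variable {D : Set G}

namespace Setup

variable (S : Setup D)
include S

theorem odd_card_le [Finite G] {K : Subgroup G} (hK : K ≤ Cfsg.oddCore G) :
    Odd (Nat.card K) := by
  have h : Odd (Nat.card (Cfsg.oddCore G)) :=
    Nat.coprime_two_right.1 (Core.coprime_card_pPrimeCore 2 G)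
  exact Odd.of_dvd_nat h (Subgroup.card_dvd_of_le hK)

theorem centralizes [Finite G] {K : Subgroup G} (hK : K.Normal) (hKo : K ≤ Cfsg.oddCore G) {x : G}
    (hx : x ∈ D) {q : ℕ} (hq : q.Prime)
    (h : ∀ k ∈ K, ∃ i : ℕ, orderOf (x * (k * x * k⁻¹)) = q ^ i) : ∀ k ∈ K, Commute x k := by
  haveI := Fact.mk hq
  have hx2 := S.inv x hx
  have hodd := S.odd_card_le hKo
  set C := K ⊓ Subgroup.centralizer {x} with hC
  obtain ⟨P, hPK, hPp, hPc, hPx⟩ := exists_sylow_conj_mem hK hodd hx2 q
  have hmem : ∀ {U : Subgroup G}, (∀ u ∈ U, x * u * x ∈ U) → ∀ s ∈ U, x * (s * x * s⁻¹) ∈ U := by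
    intro U hU s hs
    rw [show x * (s * x * s⁻¹) = (x * s * x) * s⁻¹ by group]
    exact mul_mem (hU s hs) (inv_mem hs)
  have hpart : ∀ r : ℕ, r.Prime → r ≠ q →
      (Nat.card K).factorization r ≤ (Nat.card C).factorization r := by
    intro r hr hrq
    haveI := Fact.mk hr
    obtain ⟨R, hRK, hRp, hRc, hRx⟩ := exists_sylow_conj_mem hK hodd hx2 r
    have hRC : R ≤ C := by
      intro s hs
      refine ⟨hRK hs, ?_⟩
      obtain ⟨i, hi⟩ := h s (hRK hs)
      obtain ⟨j, hj⟩ := IsPGroup.iff_orderOf.mp hRp ⟨_, hmem hRx s hs⟩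
      rw [← Subgroup.orderOf_coe] at hj
      simp only [hi] at hj
      have hj0 : j = 0 := by
        by_contra hne
        have hd : r ∣ q ^ i := hj ▸ dvd_pow_self r hne
        exact hrq ((Nat.prime_dvd_prime_iff_eq hr hq).mp (hr.dvd_of_dvd_pow hd))
      rw [hj0, pow_zero] at hj
      have h1 := orderOf_eq_one_iff.mp (hi.trans hj)
      refine Subgroup.mem_centralizer_singleton_iff.mpr ?_
      have h2 := eq_inv_of_mul_eq_one_right h1
      rw [involution_inv hx2, mul_inv_eq_iff_eq_mul] at h2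
      exact h2
    have hd := Subgroup.card_dvd_of_le hRC
    rw [hRc] at hd
    exact (hr.pow_dvd_iff_le_factorization Nat.card_pos.ne').mp hd
  -- the conjugates under `K` are the conjugates under `P`
  have e1 := card_conj_mul K x
  have e2 := card_conj_mul P x
  set oK := ((fun h => h * x * h⁻¹) '' (K : Set G)).ncard with hoK
  set oP := ((fun h => h * x * h⁻¹) '' (P : Set G)).ncard with hoP
  obtain ⟨e, he⟩ := IsPGroup.iff_card.mp (hPp.to_le (inf_le_left : P ⊓ Subgroup.centralizer {x} ≤ P))
  have hoK0 : oK ≠ 0 := by intro e; rw [e, zero_mul] at e1; exact Nat.card_pos.ne e1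
  have hoKq : oK = q ^ oK.factorization q := by
    obtain ⟨m, hm⟩ : ∃ m, oK = q ^ m := by
      refine ⟨_, Nat.eq_prime_pow_of_unique_prime_dvd hoK0 fun {r} hr hrd => ?_⟩
      by_contra hrq
      have hh := hpart r hr hrq
      have hf : (Nat.card K).factorization r =
          oK.factorization r + (Nat.card C).factorization r := by
        rw [← e1, Nat.factorization_mul hoK0 Nat.card_pos.ne']; rfl
      have := hr.factorization_pos_of_dvd hoK0 hrd
      omega
    rw [hm, hq.factorization_pow, Finsupp.single_eq_same]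
  have hle : oK ≤ oP := by
    have hdvd : q ^ e ∣ Nat.card C := by
      rw [← he]; exact Subgroup.card_dvd_of_le (inf_le_inf_right _ hPK)
    have he' := (hq.pow_dvd_iff_le_factorization Nat.card_pos.ne').mp hdvd
    have hf : (Nat.card K).factorization q =
        oK.factorization q + (Nat.card C).factorization q := by
      rw [← e1, Nat.factorization_mul hoK0 Nat.card_pos.ne']; rfl
    rw [he, hPc] at e2
    refine Nat.le_of_mul_le_mul_right ?_ (pow_pos hq.pos e)
    rw [e2, hoKq, ← pow_add]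
    exact Nat.pow_le_pow_right hq.pos (by omega)
  have himg : (fun h => h * x * h⁻¹) '' (P : Set G) = (fun h => h * x * h⁻¹) '' (K : Set G) :=
    Set.eq_of_subset_of_ncard_le (Set.image_mono hPK) hle (Set.toFinite _)
  have hin : ∀ k ∈ K, x * (k * x * k⁻¹) ∈ P := by
    intro k hk
    obtain ⟨u, hu, hue⟩ := himg.ge ⟨k, hk, rfl⟩
    rw [show k * x * k⁻¹ = u * x * u⁻¹ from hue.symm]
    exact hmem hPx u hu
  set R := Subgroup.closure ((fun k => x * (k * x * k⁻¹)) '' (K : Set G)) with hR
  have hRP : R ≤ P := by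
    rw [hR, Subgroup.closure_le]
    rintro _ ⟨k, hk, rfl⟩
    exact hin k hk
  have hbot : R = ⊥ := by
    refine S.eq_bot_of_normal_in hK (hRP.trans hPK) (hPp.to_le hRP) fun k hk u hu => ?_
    have hle : R ≤ R.comap (MulAut.conj k).toMonoidHom := by
      conv_lhs => rw [hR]
      rw [Subgroup.closure_le]
      rintro _ ⟨k', hk', rfl⟩
      show k * (x * (k' * x * k'⁻¹)) * k⁻¹ ∈ R
      rw [show k * (x * (k' * x * k'⁻¹)) * k⁻¹ =
        (x⁻¹ * (k * x⁻¹ * k⁻¹))⁻¹ * (x⁻¹ * (k * k' * x * (k * k')⁻¹)) by group, involution_inv hx2]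
      exact mul_mem (inv_mem (Subgroup.subset_closure ⟨k, hk, rfl⟩))
        (Subgroup.subset_closure ⟨k * k', mul_mem hk hk', rfl⟩)
    exact hle hu
  intro k hk
  have : x * (k * x * k⁻¹) ∈ R := Subgroup.subset_closure ⟨k, hk, rfl⟩
  rw [hbot, Subgroup.mem_bot] at this
  have h2 := eq_inv_of_mul_eq_one_right this
  rw [involution_inv hx2, mul_inv_eq_iff_eq_mul] at h2
  exact h2.symm

end Setup

end CfsgLib.RankThreeInv
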