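import Cfsg.Agent.Lib.RankThreeInv.Centralizes
import Cfsg.Agent.Lib.RankThreeInv.Mat

/-!
The two relations of a rank 3 class of involutions without commuting members, and their tight
cliques (owner: helper8).
-/

set_option autoImplicit false

namespace CfsgLib.RankThreeInv

open CfsgLib.Signalizer

/-- The hypotheses of the case without commuting members; `x * y` has order `p` and `x * z`
order `q`. -/
structure Iso {G : Type*} [Group G] (D : Set G) (p q : ℕ) (x y z : G) : Prop extends Setup D where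
  hp : p.Prime
  hq : q.Prime
  hpq : p ≠ q
  ord : ∀ a ∈ D, ∀ b ∈ D, a ≠ b → orderOf (a * b) = p ∨ orderOf (a * b) = q
  trP : ∀ a ∈ D, ∀ b ∈ D, ∀ a' ∈ D, ∀ b' ∈ D, orderOf (a * b) = p → orderOf (a' * b') = p →
    ∃ g : G, g * a * g⁻¹ = a' ∧ g * b * g⁻¹ = b'
  trQ : ∀ a ∈ D, ∀ b ∈ D, ∀ a' ∈ D, ∀ b' ∈ D, orderOf (a * b) = q → orderOf (a' * b') = q →
    ∃ g : G, g * a * g⁻¹ = a' ∧ g * b * g⁻¹ = b'
  core : ∀ a ∈ D, ∀ b ∈ D, a * b ∈ Cfsg.oddCore G
  hx : x ∈ D
  hy : y ∈ D
  hz : z ∈ D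
  hxy : orderOf (x * y) = p
  hxz : orderOf (x * z) = q

namespace Iso

variable {G : Type*} [Group G] {D : Set G} {p q : ℕ} {x y z : G} (H : Iso D p q x y z)
include H

theorem swap : Iso D q p x z y :=
  ⟨H.toSetup, H.hq, H.hp, H.hpq.symm, fun a ha b hb h => (H.ord a ha b hb h).symm, H.trQ, H.trP,
    H.core, H.hx, H.hz, H.hy, H.hxz, H.hxy⟩

theorem odd_order [Finite G] {a b : G} (ha : a ∈ D) (hb : b ∈ D) : Odd (orderOf (a * b)) := by
  refine Odd.of_dvd_nat (H.toSetup.odd_card_le le_rfl) ?_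
  have := orderOf_dvd_natCard (⟨a * b, H.core a ha b hb⟩ : Cfsg.oddCore G)
  rwa [← Subgroup.orderOf_coe] at this

theorem three_le [Finite G] : 3 ≤ p := by
  have h := H.odd_order H.hx H.hy
  rw [H.hxy] at h
  have := H.hp.two_le
  rcases h with ⟨k, rfl⟩
  omega

theorem not_mem_core [Finite G] {a : G} (ha : a ∈ D) : a ∉ Cfsg.oddCore G := by
  intro h
  have h1 := orderOf_dvd_natCard (⟨a, h⟩ : Cfsg.oddCore G)
  rw [← Subgroup.orderOf_coe, H.inv a ha] at h1
  have := Nat.odd_iff.mp (H.toSetup.odd_card_le (K := Cfsg.oddCore G) le_rfl)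
  have := Nat.dvd_iff_mod_eq_zero.mp h1
  omega

theorem mem_or (g : G) : g ∈ Cfsg.oddCore G ∨ x * g ∈ Cfsg.oddCore G := by
  have hg : g ∈ Subgroup.closure D := by rw [H.gen]; exact Subgroup.mem_top g
  have hN : (Cfsg.oddCore G).Normal := Cfsg.pPrimeCore_normal 2 G
  have hxx : x * x = 1 := involution_sq (H.inv x H.hx)
  have hconj : ∀ a ∈ Cfsg.oddCore G, x * a * x ∈ Cfsg.oddCore G := fun a ha => by
    have := hN.conj_mem a ha x
    rwa [involution_inv (H.inv x H.hx)] at this
  induction hg using Subgroup.closure_induction with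
  | mem d hd => exact Or.inr (H.core x H.hx d hd)
  | one => exact Or.inl (one_mem _)
  | mul a b _ _ iha ihb =>
    rcases iha with ha | ha <;> rcases ihb with hb | hb
    · exact Or.inl (mul_mem ha hb)
    · refine Or.inr ?_
      have := mul_mem (hconj a ha) hb
      rwa [show x * a * x * (x * b) = x * (a * ((x * x) * b)) by group, hxx, one_mul] at this
    · refine Or.inr ?_
      have := mul_mem ha hb
      rwa [mul_assoc] at this
    · refine Or.inl ?_
      have := mul_mem (hconj _ ha) hb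
      rwa [show x * (x * a) * x * (x * b) = (x * x) * a * ((x * x) * b) by group, hxx, one_mul,
        one_mul] at this
  | inv a _ iha =>
    rcases iha with ha | ha
    · exact Or.inl (inv_mem ha)
    · refine Or.inr ?_
      have := hconj _ (inv_mem ha)
      rwa [mul_inv_rev, involution_inv (H.inv x H.hx),
        show x * (a⁻¹ * x) * x = x * a⁻¹ * (x * x) by group, hxx, mul_one] at this

/-- Conjugation of the members. -/
def f (a b : D) : D := ⟨(a : G) * b * a, H.toSetup.conj' a.2 b.2⟩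

/-- Conjugation as a permutation of the class. -/
def cp (g : G) : D ≃ D where
  toFun a := ⟨g * a * g⁻¹, H.conj g a a.2⟩
  invFun a := ⟨g⁻¹ * a * g, by simpa using H.conj g⁻¹ a a.2⟩
  left_inv a := Subtype.ext (by simp only; group)
  right_inv a := Subtype.ext (by simp only; group)

theorem cp_f (g : G) (a b : D) : H.cp g (H.f a b) = H.f (H.cp g a) (H.cp g b) :=
  Subtype.ext (by simp only [cp, f, Equiv.coe_fn_mk]; group)

theorem cp_eq_f (a b : D) : H.cp (a : G) b = H.f a b := Subtype.ext (conj_eq (H.inv a a.2) _)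

theorem order_cp (g : G) (a b : D) :
    orderOf (((H.cp g a : D) : G) * (H.cp g b : D)) = orderOf ((a : G) * b) := by
  show orderOf (g * a * g⁻¹ * (g * b * g⁻¹)) = _
  rw [show g * a * g⁻¹ * (g * b * g⁻¹) = g * ((a : G) * b) * g⁻¹ by group, orderOf_conj]

theorem f_inj [Finite G] (a : D) : Function.Bijective fun m => H.f m a := by
  rw [← Finite.injective_iff_bijective]
  intro m m' h
  exact Subtype.ext (inj_conj (H.odd_order a.2 m.2) (H.odd_order a.2 m'.2) (congrArg Subtype.val h))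

theorem order_f [Finite G] (m a : D) :
    orderOf ((a : G) * (H.f m a : D)) = orderOf ((a : G) * m) :=
  orderOf_mul_conj (H.odd_order a.2 m.2)

theorem trans_core (a : D) : ∃ n ∈ Cfsg.oddCore G, n * x * n⁻¹ = (a : G) := by
  obtain ⟨g, hg⟩ := H.trans x H.hx a a.2
  rcases H.mem_or g with h | h
  · exact ⟨g, h, hg⟩
  · refine ⟨g * x, ?_, ?_⟩
    · have := (Cfsg.pPrimeCore_normal 2 G).conj_mem _ h x
      rwa [involution_inv (H.inv x H.hx), mul_mul_self (H.inv x H.hx)] at this
    · rw [show g * x * x * (g * x)⁻¹ = g * (x * x * x⁻¹) * g⁻¹ by group, involution_sq (H.inv x H.hx),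
        one_mul, involution_inv (H.inv x H.hx), hg]

theorem card_dvd [Finite G] :
    Nat.card D * Nat.card (Cfsg.oddCore G ⊓ Subgroup.centralizer {x} : Subgroup G) =
      Nat.card (Cfsg.oddCore G) := by
  rw [← card_conj_mul (Cfsg.oddCore G) x, Nat.card_coe_set_eq]
  congr 2
  refine Set.ext fun a => ⟨fun ha => ?_, ?_⟩
  · obtain ⟨n, hn, hna⟩ := H.trans_core ⟨a, ha⟩
    exact ⟨n, hn, hna⟩
  · rintro ⟨n, -, rfl⟩
    exact H.conj n x H.hx

/-- A large clique of the `p`-relation. -/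
theorem exists_clique [Finite G] : ∃ T : Set D,
    p ^ (Nat.card D).factorization p ≤ T.ncard ∧
      ∀ a ∈ T, ∀ b ∈ T, a ≠ b → orderOf ((a : G) * b) = p := by
  haveI := Fact.mk H.hp
  obtain ⟨P, hPN, hPp, hPc, hPx⟩ := exists_sylow_conj_mem (K := Cfsg.oddCore G) (Cfsg.pPrimeCore_normal 2 G)
    (H.toSetup.odd_card_le le_rfl) (H.inv x H.hx) p
  refine ⟨{a : D | ∃ u ∈ P, u * x * u⁻¹ = (a : G)}, ?_, ?_⟩
  · have e1 := card_conj_mul P x
    have e2 := H.card_dvd
    obtain ⟨e, he⟩ := IsPGroup.iff_card.mp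
      (hPp.to_le (inf_le_left : P ⊓ Subgroup.centralizer {x} ≤ P))
    have hd : p ^ e ∣ Nat.card (Cfsg.oddCore G ⊓ Subgroup.centralizer {x} : Subgroup G) := by
      rw [← he]; exact Subgroup.card_dvd_of_le (inf_le_inf_right _ hPN)
    have he' := (H.hp.pow_dvd_iff_le_factorization Nat.card_pos.ne').mp hd
    haveI : Nonempty D := ⟨⟨x, H.hx⟩⟩
    have hf : (Nat.card (Cfsg.oddCore G)).factorization p = (Nat.card D).factorization p +
        (Nat.card (Cfsg.oddCore G ⊓ Subgroup.centralizer {x} : Subgroup G)).factorization p := by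
      rw [← e2, Nat.factorization_mul Nat.card_pos.ne' Nat.card_pos.ne']; rfl
    have himg : Subtype.val '' {a : D | ∃ u ∈ P, u * x * u⁻¹ = (a : G)} =
        (fun h => h * x * h⁻¹) '' (P : Set G) := by
      ext a
      constructor
      · rintro ⟨b, ⟨u, hu, hub⟩, rfl⟩; exact ⟨u, hu, hub⟩
      · rintro ⟨u, hu, rfl⟩; exact ⟨⟨_, H.conj u x H.hx⟩, ⟨u, hu, rfl⟩, rfl⟩
    rw [← Set.ncard_image_of_injective _ Subtype.val_injective, himg]
    refine Nat.le_of_mul_le_mul_right ?_ (pow_pos H.hp.pos e)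
    rw [← he, e1, hPc, he, ← pow_add]
    exact Nat.pow_le_pow_right H.hp.pos (by omega)
  · rintro a ⟨u, hu, hua⟩ b ⟨w, hw, hwb⟩ hne
    have hmem : (a : G) * b ∈ P := by
      rw [← hua, ← hwb, show u * x * u⁻¹ * (w * x * w⁻¹) = u * (x * (u⁻¹ * w) * x) * w⁻¹ by group]
      exact mul_mem (mul_mem hu (hPx _ (mul_mem (inv_mem hu) hw))) (inv_mem hw)
    obtain ⟨k, hk⟩ := IsPGroup.iff_orderOf.mp hPp ⟨_, hmem⟩
    rw [← Subgroup.orderOf_coe] at hk
    simp only at hk
    rcases H.ord a a.2 b b.2 (fun e => hne (Subtype.ext e)) with h | h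
    · exact h
    · rw [h] at hk
      rcases k with _ | k
      · exact absurd hk H.hq.ne_one
      · exact absurd ((Nat.prime_dvd_prime_iff_eq H.hp H.hq).mp (hk ▸ dvd_pow_self p k.succ_ne_zero))
          H.hpq

theorem card_primes [Finite G] {r : ℕ} (hr : r.Prime) (h : r ∣ Nat.card D) : r = p ∨ r = q := by
  haveI := Fact.mk hr
  by_contra hne
  push Not at hne
  obtain ⟨R, hRN, hRp, hRc, hRx⟩ := exists_sylow_conj_mem (K := Cfsg.oddCore G) (Cfsg.pPrimeCore_normal 2 G)
    (H.toSetup.odd_card_le le_rfl) (H.inv x H.hx) r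
  have hRC : R ≤ Cfsg.oddCore G ⊓ Subgroup.centralizer {x} := by
    intro s hs
    refine ⟨hRN hs, Subgroup.mem_centralizer_singleton_iff.mpr ?_⟩
    by_contra hsx
    have hne' : x ≠ s * x * s⁻¹ := fun e => hsx (by
      conv_rhs => rw [e]
      rw [inv_mul_cancel_right])
    have hmem : x * (s * x * s⁻¹) ∈ R := by
      rw [show x * (s * x * s⁻¹) = (x * s * x) * s⁻¹ by group]
      exact mul_mem (hRx s hs) (inv_mem hs)
    obtain ⟨k, hk⟩ := IsPGroup.iff_orderOf.mp hRp ⟨_, hmem⟩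
    rw [← Subgroup.orderOf_coe] at hk
    simp only at hk
    rcases H.ord x H.hx _ (H.conj s x H.hx) hne' with h | h <;> rw [h] at hk <;> rcases k with _ | k
    · exact H.hp.ne_one hk
    · exact hne.1 ((Nat.prime_dvd_prime_iff_eq hr H.hp).mp (hk ▸ dvd_pow_self r k.succ_ne_zero))
    · exact H.hq.ne_one hk
    · exact hne.2 ((Nat.prime_dvd_prime_iff_eq hr H.hq).mp (hk ▸ dvd_pow_self r k.succ_ne_zero))
  have hd := Subgroup.card_dvd_of_le hRC
  rw [hRc] at hd
  have h1 := (hr.pow_dvd_iff_le_factorization Nat.card_pos.ne').mp hd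
  haveI : Nonempty D := ⟨⟨x, H.hx⟩⟩
  have hf : (Nat.card (Cfsg.oddCore G)).factorization r = (Nat.card D).factorization r +
      (Nat.card (Cfsg.oddCore G ⊓ Subgroup.centralizer {x} : Subgroup G)).factorization r := by
    rw [← H.card_dvd, Nat.factorization_mul Nat.card_pos.ne' Nat.card_pos.ne']; rfl
  have := hr.factorization_pos_of_dvd (Nat.card_pos (α := D)).ne' h
  omega

theorem card_eq [Finite G] : Nat.card D =
    p ^ (Nat.card D).factorization p * q ^ (Nat.card D).factorization q := by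
  haveI : Nonempty D := ⟨⟨x, H.hx⟩⟩
  set v := Nat.card D with hv
  have hv0 : v ≠ 0 := Nat.card_pos.ne'
  have hm := Nat.ordProj_mul_ordCompl_eq_self v p
  set m := ordCompl[p] v with hmd
  have hm0 : m ≠ 0 := by intro e; rw [e, mul_zero] at hm; exact hv0 hm.symm
  have hmq : ∀ {r : ℕ}, r.Prime → r ∣ m → r = q := by
    intro r hr hrm
    rcases H.card_primes hr (hrm.trans ⟨_, by rw [mul_comm]; exact hm.symm⟩) with e | e
    · subst e; exact absurd hrm (Nat.not_dvd_ordCompl hr hv0)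
    · exact e
  obtain ⟨j, hj⟩ : ∃ j, m = q ^ j := ⟨_, Nat.eq_prime_pow_of_unique_prime_dvd hm0 hmq⟩
  have : v.factorization q = j := by
    rw [← hm, Nat.factorization_mul (pow_ne_zero _ H.hp.ne_zero) hm0, hj, H.hp.factorization_pow,
      H.hq.factorization_pow]
    simp [Finsupp.single_eq_of_ne H.hpq.symm]
  rw [this, ← hj]; exact hm.symm

end Iso

end CfsgLib.RankThreeInv
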