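import Cfsg.Agent.Lib.RankThreeInv.Srg

/-!
A rank 3 class of involutions with commuting members has products of order at most 3
(owner: helper8).
-/

set_option autoImplicit false

namespace CfsgLib.RankThreeInv.Graph

open CfsgLib.Signalizer

variable {G : Type*} [Group G] [Finite G] {D : Set G} {n : ℕ} (H : Graph D n)
include H

theorem four {a b x : D} (hab : a ≠ b) (hc : Commute (a : G) b) (hxa : ¬ Commute (x : G) a)
    (hxb : ¬ Commute (x : G) b) (hg : Commute ((H.f a x : D) : G) (H.f b x : G)) :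
    ∃ a b c e : D, a ≠ b ∧ a ≠ c ∧ a ≠ e ∧ b ≠ c ∧ b ≠ e ∧ c ≠ e ∧ Commute (a : G) b ∧
      Commute (a : G) c ∧ Commute (a : G) e ∧ Commute (b : G) c ∧ Commute (b : G) e ∧
      Commute (c : G) e ∧ (a : G) * b = (c : G) * e := by
  obtain ⟨m, hm⟩ := H.odd
  have ia := H.inv a a.2; have ib := H.inv b b.2; have ix := H.inv x x.2
  set t : G := (a : G) * b with ht
  have htinv : t⁻¹ = t := by rw [ht, mul_inv_rev, involution_inv ia, involution_inv ib, hc.eq]
  have hta : (a : G) * t * a = t := (commute_iff ia).mp ((Commute.refl (a : G)).mul_right hc)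
  have htsq : t * t = 1 := by nth_rewrite 1 [← htinv]; exact inv_mul_cancel t
  set r : G := (x : G) * a with hr
  have hrn : r ^ (2 * m + 1) = 1 := by
    rw [← hm, ← H.ord x x.2 a a.2 hxa]; exact pow_orderOf_eq_one _
  set g : G := r ^ (m + 1) with hgd
  have hg2 : g * g = r := by
    rw [hgd, ← pow_add, show m + 1 + (m + 1) = 2 * m + 1 + 1 by ring, pow_succ, hrn, one_mul]
  have har : (a : G) * r * (a : G)⁻¹ = r⁻¹ := by
    rw [hr, mul_inv_rev, involution_inv ia, involution_inv ix]
    simp [mul_assoc, involution_sq ia]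
  have hag : (a : G) * g * a = g⁻¹ := by
    rw [← conj_eq ia, hgd, ← conj_pow, har, inv_pow]
  have haginv : (a : G) * g⁻¹ * a = g := by
    rw [← hag]
    simp only [mul_assoc, mul_mul_self ia, involution_sq ia, mul_one]
  have hgag : g * a * g⁻¹ = x := by
    have e1 : (a : G) * g⁻¹ = g * a := by
      conv_lhs => rw [← mul_one ((a : G) * g⁻¹), ← involution_sq ia, ← mul_assoc, haginv]
    calc g * a * g⁻¹ = g * ((a : G) * g⁻¹) := mul_assoc _ _ _
      _ = g * g * a := by rw [e1, mul_assoc]
      _ = x := by rw [hg2, hr, mul_assoc, involution_sq ia, mul_one]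
  -- `x` commutes with its conjugate by `t`
  have hxt : Commute (x : G) (t * x * t) := by
    have h2 := (H.cp_comm (b : G) _ _).mpr hg
    have e1 : ((H.cp (b : G) (H.f b x) : D) : G) = x := by
      show (b : G) * ((b : G) * x * b) * (b : G)⁻¹ = x
      rw [involution_inv ib]; simp only [mul_assoc, involution_sq ib, mul_one]
      exact mul_mul_self ib _
    have e2 : ((H.cp (b : G) (H.f a x) : D) : G) = t * x * t := by
      show (b : G) * ((a : G) * x * a) * (b : G)⁻¹ = t * x * t
      rw [involution_inv ib]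
      conv_rhs => arg 1; rw [ht, hc.eq]
      simp only [ht, mul_assoc]
    rw [e1, e2] at h2
    exact h2.symm
  -- transported by `g`
  have hq : Commute (a : G) (g⁻¹ * t * g * a * (g⁻¹ * t * g)) := by
    have h2 : Commute (g⁻¹ * x * g⁻¹⁻¹) (g⁻¹ * (t * x * t) * g⁻¹⁻¹) := SemiconjBy.conj_iff.mpr hxt
    rw [inv_inv, ← hgag] at h2
    convert h2 using 1 <;> group
  set q : G := g⁻¹ * t * g with hqd
  have hqinv : q⁻¹ = q := by rw [hqd, mul_inv_rev, mul_inv_rev, inv_inv, htinv]; group
  have hqq : q * q = 1 := by nth_rewrite 1 [← hqinv]; exact inv_mul_cancel q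
  have haq : (a : G) * q * a = g * t * g⁻¹ := by
    calc (a : G) * q * a
        = ((a : G) * g⁻¹ * a) * ((a : G) * t * a) * ((a : G) * g * a) := by
          rw [hqd]; simp only [mul_assoc, mul_mul_self ia]
      _ = g * t * g⁻¹ := by rw [haginv, hta, hag]
  have hcq : Commute q ((a : G) * q * a) := by
    set c := q * (a : G) * q with hcd
    have hc2 : c * c = 1 := by
      rw [hcd]; simp only [mul_assoc]
      rw [← mul_assoc q q, hqq, one_mul, mul_mul_self ia, hqq]
    have hsq : ((a : G) * c) * ((a : G) * c) = 1 := by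
      have e : c * ((a : G) * c) = (a : G) := by
        rw [← mul_assoc, ← hq.eq, mul_assoc, hc2, mul_one]
      rw [mul_assoc, e, involution_sq ia]
    -- `a * c = (a q a) q` is an involution
    have hw : ((a : G) * q * a * q) * ((a : G) * q * a * q) = 1 := by
      rw [hcd] at hsq; simpa only [mul_assoc] using hsq
    have h1 := eq_inv_of_mul_eq_one_left hw
    have h2 : ((a : G) * q * a * q)⁻¹ = q * ((a : G) * q * a) := by
      simp only [mul_inv_rev, hqinv, involution_inv ia, mul_assoc]
    rw [h2] at h1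
    exact h1.symm
  set u : G := r * t * r⁻¹ with hud
  have htu : Commute t u := by
    have h2 : Commute (g * q * g⁻¹) (g * ((a : G) * q * a) * g⁻¹) := SemiconjBy.conj_iff.mpr hcq
    rw [haq, hqd] at h2
    rw [hud, ← hg2]
    convert h2 using 1 <;> group
  have huinv : u⁻¹ = u := by rw [hud]; simp only [mul_inv_rev, inv_inv, htinv, mul_assoc]
  have huu : u * u = 1 := by nth_rewrite 1 [← huinv]; exact inv_mul_cancel u
  let c : D := H.cp u a
  let e : D := H.cp u b
  have hce : (c : G) * e = t := by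
    show u * a * u⁻¹ * (u * b * u⁻¹) = t
    rw [show u * a * u⁻¹ * (u * b * u⁻¹) = u * t * u⁻¹ by rw [ht]; group, ← htu.eq,
      mul_inv_cancel_right]
  have hcec : Commute (c : G) e := (H.cp_comm u a b).mpr hc
  have hcomm : ∀ c : D, Commute t (c : G) → Commute (a : G) c ∧ Commute (b : G) c := by
    intro c h
    have hh : H.f a c = H.f b c := by
      refine Subtype.ext ?_
      have h2 : t * c * t = c := by rw [h.eq, mul_assoc, htsq, mul_one]
      show (a : G) * c * a = (b : G) * c * b
      conv_lhs => rw [← h2]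
      rw [show (a : G) * (t * c * t) * a = ((a : G) * t) * c * (t * a) by group,
        show (a : G) * t = b by rw [ht, mul_mul_self ia],
        show t * (a : G) = b by rw [ht, hc.eq, mul_assoc, involution_sq ia, mul_one]]
    by_cases ha : Commute (a : G) c
    · rw [H.fix ha] at hh
      exact ⟨ha, (commute_iff ib).mpr (congrArg Subtype.val hh.symm)⟩
    · by_cases hb : Commute (b : G) c
      · rw [H.fix hb] at hh
        exact absurd ((commute_iff ia).mpr (congrArg Subtype.val hh)) ha
      · exact absurd (H.inj ha hb hh) hab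
  have htc : ∀ d : D, Commute t (d : G) → Commute t ((H.cp u d : D) : G) := by
    intro d h
    show Commute t (u * d * u⁻¹)
    exact (htu.mul_right h).mul_right htu.inv_right
  have hct := htc a ((Commute.refl (a : G)).mul_left hc.symm)
  have het := htc b (hc.mul_left (Commute.refl _))
  have hrt : ¬ Commute t r := by
    intro h
    have hax : Commute (a : G) t := (Commute.refl (a : G)).mul_right hc
    have hxt' : Commute t (x : G) := by
      have := h.mul_right hax.symm
      rwa [hr, mul_assoc, involution_sq ia, mul_one] at this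
    exact hxa ((hcomm x hxt').1.symm)
  have har' : ∀ z : G, (a : G) * (r * z * r⁻¹) * a = r⁻¹ * ((a : G) * z * a) * r := by
    intro z
    rw [← conj_eq ia, ← conj_eq ia, show (a : G) * (r * z * r⁻¹) * (a : G)⁻¹ =
      ((a : G) * r * (a : G)⁻¹) * ((a : G) * z * (a : G)⁻¹) * ((a : G) * r * (a : G)⁻¹)⁻¹ by group,
      har, inv_inv]
  have hau : (a : G) * u * a = r⁻¹ * t * r := by rw [hud, har', hta]
  have hca : a ≠ c := by
    intro h
    have h1 : u * a * u⁻¹ = (a : G) := (congrArg Subtype.val h).symm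
    have h2 : (a : G) * u * a = u := by
      rw [mul_inv_eq_iff_eq_mul] at h1
      rw [← h1, mul_assoc, involution_sq ia, mul_one]
    rw [hau, hud] at h2
    have h3 : Commute t (r ^ 2) := by
      have := congrArg (fun z => r * z * r) h2
      simp only [mul_assoc, inv_mul_cancel, mul_one] at this
      rw [← mul_assoc r r⁻¹, mul_inv_cancel, one_mul, ← mul_assoc r r, ← pow_two] at this
      exact this
    have h4 := h3.pow_right (m + 1)
    rw [← pow_mul, show 2 * (m + 1) = 2 * m + 1 + 1 by ring, pow_succ, hrn, one_mul] at h4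
    exact hrt h4
  have hcb : b ≠ c := by
    intro h
    have h1 : u * a * u = (b : G) := by
      have := (congrArg Subtype.val h).symm
      rwa [show (c : G) = u * a * u⁻¹ from rfl, huinv] at this
    have h2 : (a : G) * u * a * u = t := by rw [ht, ← h1]; simp only [mul_assoc]
    rw [hau, hud] at h2
    -- `T (-1) * T 1 = T 0` forces period three
    have hconj : ∀ z : G, r * z * r⁻¹ = (MulAut.conj r) z := fun z => rfl
    have h4 : r * t * r⁻¹ = r⁻¹ * t * r * t := by
      have := congrArg (fun z => r⁻¹ * t * r * z) h2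
      simp only [← mul_assoc] at this
      rw [show r⁻¹ * t * r * r⁻¹ * t * r = r⁻¹ * (t * t) * r by group, htsq] at this
      simpa [mul_assoc] using this
    set φ := MulAut.conj r with hφ
    have hT2 : φ (φ t) = t * φ t := by
      have := congrArg φ h4
      rw [show φ (r * t * r⁻¹) = φ (φ t) from rfl, show φ (r⁻¹ * t * r * t) = t * φ t by
        simp only [hφ, MulAut.conj_apply]; group] at this
      exact this
    have hT3 : φ (φ (φ t)) = t := by
      rw [hT2, map_mul, hT2]
      have e : Commute t (φ t) := htu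
      rw [← mul_assoc, ← e.eq, mul_assoc]
      rw [show φ t * φ t = 1 by rw [← map_mul, htsq, map_one], mul_one]
    have h3c : Commute t (r ^ 3) := by
      have h' : r ^ 3 * t * (r ^ 3)⁻¹ = t := by
        conv_rhs => rw [← hT3]
        simp only [hφ, MulAut.conj_apply, pow_succ, pow_zero, one_mul, mul_inv_rev, mul_assoc]
      rw [mul_inv_eq_iff_eq_mul] at h'
      exact h'.symm
    obtain ⟨kk, hk⟩ := exists_pow_eq_self_of_coprime
      (show Nat.Coprime 3 (orderOf r) by
        rw [hr, H.ord x x.2 a a.2 hxa]; exact (Nat.prime_three.coprime_iff_not_dvd).mpr H.not3)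
    exact hrt (hk ▸ h3c.pow_right kk)
  have hea : a ≠ e := by
    intro h
    have hv : (a : G) = e := congrArg Subtype.val h
    have h2 : (c : G) * a = a * b := by
      have := hce.trans ht
      rwa [← hv] at this
    have hca' : Commute (c : G) a := by rw [hv]; exact hcec
    rw [hca'.eq] at h2
    exact hcb (Subtype.ext (mul_left_cancel h2).symm)
  have heb : b ≠ e := by
    intro h
    have hv : (b : G) = e := congrArg Subtype.val h
    refine hca (Subtype.ext ?_)
    have h2 : (c : G) * e = (a : G) * e := by rw [hce, ht, hv]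
    exact (mul_right_cancel h2).symm
  have hne : c ≠ e := fun h => hab ((H.cp u).injective h)
  exact ⟨a, b, c, e, hab, hca, hea, hcb, heb, hne, hc, (hcomm c hct).1, (hcomm e het).1,
    (hcomm c hct).2, (hcomm e het).2, hcec, hce.symm⟩

open scoped Classical in
/-- A commuting set maximal in `S`. -/
def IsMax (_H : Graph D n) (S : Set D) (W : Set D) : Prop :=
  W ⊆ S ∧ (∀ a ∈ W, ∀ b ∈ W, Commute (a : G) b) ∧
    ∀ W' : Set D, W' ⊆ S → (∀ a ∈ W', ∀ b ∈ W', Commute (a : G) b) → W ⊆ W' → W' = W

theorem exists_max {S W : Set D} (hWS : W ⊆ S) (hW : ∀ a ∈ W, ∀ b ∈ W, Commute (a : G) b) :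
    ∃ W', W ⊆ W' ∧ H.IsMax S W' := by
  obtain ⟨W', h, ⟨h1, h2⟩, h3⟩ := Set.Finite.exists_le_maximal
    (s := {W : Set D | W ⊆ S ∧ ∀ a ∈ W, ∀ b ∈ W, Commute (a : G) b}) (Set.toFinite _) (a := W) ⟨hWS, hW⟩
  exact ⟨W', h, h1, h2, fun U hU1 hU2 hle => le_antisymm (h3 ⟨hU1, hU2⟩ hle) hle⟩

theorem max_conj {S W₁ W₂ : Set D} (hS : ∀ a ∈ S, ∀ b ∈ S, H.f a b ∈ S) (h₁ : H.IsMax S W₁)
    (h₂ : H.IsMax S W₂) :
    ∃ g ∈ Subgroup.closure (Subtype.val '' S), H.cp g '' W₁ = W₂ := by
  set K := Subgroup.closure (Subtype.val '' S) with hK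
  haveI : Fact (Nat.Prime 2) := ⟨Nat.prime_two⟩
  have hmem : ∀ a ∈ S, (a : G) ∈ K := fun a ha => Subgroup.subset_closure ⟨a, ha, rfl⟩
  have hg : ∀ k ∈ K, ∀ a ∈ S, H.cp k a ∈ S := by
    intro k hk
    induction hk using Subgroup.closure_induction with
    | mem z hz =>
      obtain ⟨d, hd, rfl⟩ := hz
      intro a ha
      have e : H.cp (d : G) a = H.f d a := Subtype.ext (conj_eq (H.inv d d.2) _)
      rw [e]; exact hS d hd a ha
    | one => intro a ha; rwa [show H.cp 1 a = a from Subtype.ext (by simp [cp])]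
    | mul y z _ _ hy hz =>
      intro a ha
      rw [show H.cp (y * z) a = H.cp y (H.cp z a) from Subtype.ext (by simp [cp, mul_assoc])]
      exact hy _ (hz a ha)
    | inv y _ hy =>
      intro a ha
      have himg : H.cp y '' S = S := by
        refine Set.eq_of_subset_of_ncard_le ?_ (le_of_eq ?_) (Set.toFinite _)
        · rintro _ ⟨c, hc, rfl⟩; exact hy c hc
        · rw [Set.ncard_image_of_injective _ (H.cp y).injective]
      rw [← himg] at ha
      obtain ⟨c, hc, hca⟩ := ha
      rw [show H.cp y⁻¹ a = c from Subtype.ext (by rw [← hca]; simp [cp]; group)]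
      exact hc
  have hsyl : ∀ W, H.IsMax S W → ∃ P : Sylow 2 K, ∀ a : D, a ∈ S →
      (a ∈ W ↔ ∃ h : (a : G) ∈ K, (⟨a, h⟩ : K) ∈ P) := by
    rintro W ⟨hWS, hW, hmax⟩
    let L : Subgroup K := Subgroup.closure {z : K | ∃ a ∈ W, (a : G) = z}
    have hcomm : L ≤ Subgroup.centralizer (L : Set K) := by
      have h1 : L ≤ Subgroup.centralizer {z : K | ∃ a ∈ W, (a : G) = z} := by
        rw [Subgroup.closure_le]
        rintro z ⟨a, ha, haz⟩
        rw [SetLike.mem_coe, Subgroup.mem_centralizer_iff]
        rintro w ⟨b, hb, hbw⟩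
        exact Subtype.ext (by simp only [Subgroup.coe_mul, ← haz, ← hbw]; exact (hW b hb a ha).eq)
      exact (Subgroup.closure_le _).mpr fun z hz => Subgroup.mem_centralizer_iff.mpr fun w hw =>
        (Subgroup.mem_centralizer_iff.mp (h1 hw) z hz).symm
    have hL : IsPGroup 2 L := by
      intro z
      refine ⟨1, Subtype.ext ?_⟩
      obtain ⟨z, hz⟩ := z
      simp only [pow_one, SubmonoidClass.mk_pow, Subgroup.coe_one]
      induction hz using Subgroup.closure_induction with
      | mem v hv =>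
        obtain ⟨a, ha, hav⟩ := hv
        exact Subtype.ext (by simp [pow_two, ← hav, involution_sq (H.inv a a.2)])
      | one => simp
      | mul y w hy hw ihy ihw =>
        rw [(show Commute y w from (Subgroup.mem_centralizer_iff.mp (hcomm hw) y hy)).mul_pow, ihy,
          ihw, one_mul]
      | inv y _ ihy => rw [inv_pow, ihy, inv_one]
    obtain ⟨P, hP⟩ := hL.exists_le_sylow
    refine ⟨P, ?_⟩
    have hclique : ∀ a : D, ∀ b : D, (∃ h : (a : G) ∈ K, (⟨a, h⟩ : K) ∈ P) →
        (∃ h : (b : G) ∈ K, (⟨b, h⟩ : K) ∈ P) → Commute (a : G) b := by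
      rintro a b ⟨ha, haP⟩ ⟨hb, hbP⟩
      by_contra hnc
      obtain ⟨k, hk⟩ := IsPGroup.iff_orderOf.mp P.isPGroup' ⟨_, mul_mem haP hbP⟩
      rw [← Subgroup.orderOf_coe, ← Subgroup.orderOf_coe] at hk
      have hodd := H.odd_mul hnc
      simp only [Subgroup.coe_mul] at hk
      rw [hk] at hodd
      rcases k with _ | k
      · exact ne_one_of_not_commute (H.inv b b.2) hnc (orderOf_eq_one_iff.mp (by simpa using hk))
      · exact absurd hodd (by simp [Nat.even_pow])
    have hsub : ∀ a ∈ W, ∃ h : (a : G) ∈ K, (⟨a, h⟩ : K) ∈ P := fun a ha =>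
      ⟨hmem a (hWS ha), hP (Subgroup.subset_closure ⟨a, ha, rfl⟩)⟩
    intro a ha
    refine ⟨hsub a, fun h => ?_⟩
    have := hmax (insert a W) (Set.insert_subset ha hWS) (by
      rintro p (rfl | hp) q (rfl | hq)
      · exact Commute.refl _
      · exact hclique _ _ h (hsub q hq)
      · exact hclique _ _ (hsub p hp) h
      · exact hW p hp q hq) (Set.subset_insert _ _)
    rw [← this]; exact Set.mem_insert _ _
  obtain ⟨P₁, hP₁⟩ := hsyl W₁ h₁
  obtain ⟨P₂, hP₂⟩ := hsyl W₂ h₂
  obtain ⟨k, hk⟩ := MulAction.exists_smul_eq K P₁ P₂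
  refine ⟨k, k.2, Set.ext fun a => ?_⟩
  constructor
  · rintro ⟨b, hb, rfl⟩
    have hbS := h₁.1 hb
    have hcS := hg k k.2 b hbS
    rw [hP₂ _ hcS]
    obtain ⟨hbK, hbP⟩ := (hP₁ b hbS).mp hb
    refine ⟨hmem _ hcS, ?_⟩
    rw [← hk, ← SetLike.mem_coe, Sylow.smul_def]
    exact ⟨⟨b, hbK⟩, hbP, rfl⟩
  · intro ha
    have haS := h₂.1 ha
    have hbS := hg _ (inv_mem k.2) a haS
    refine ⟨H.cp (k : G)⁻¹ a, (hP₁ _ hbS).mpr ⟨hmem _ hbS, ?_⟩,
      Subtype.ext (by simp [cp]; group)⟩
    obtain ⟨haK, haP⟩ := (hP₂ a haS).mp ha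
    rw [← hk] at haP
    obtain ⟨z, hz, hza⟩ := haP
    suffices e : (⟨_, hmem _ hbS⟩ : K) = z by rw [e]; exact hz
    refine Subtype.ext ?_
    have := congrArg Subtype.val hza
    simp only [cp, Equiv.coe_fn_mk]
    rw [← this]
    simp [mul_assoc]

/-- The members commuting with both `a` and `d`. -/
def meet (_H : Graph D n) (a d : D) : Set D := {e | Commute (a : G) e ∧ Commute (d : G) e}

theorem meet_closed (a d : D) : ∀ y ∈ H.meet a d, ∀ z ∈ H.meet a d, H.f y z ∈ H.meet a d :=
  fun _ hy _ hz => ⟨(hy.1.mul_right hz.1).mul_right hy.1, (hy.2.mul_right hz.2).mul_right hy.2⟩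

theorem isMax_image {g : G} {a d : D} {W : Set D} (h : H.IsMax (H.meet a d) W) :
    H.IsMax (H.meet (H.cp g a) (H.cp g d)) (H.cp g '' W) := by
  obtain ⟨h1, h2, h3⟩ := h
  refine ⟨?_, ?_, ?_⟩
  · rintro _ ⟨w, hw, rfl⟩
    exact ⟨(H.cp_comm g _ _).mpr (h1 hw).1, (H.cp_comm g _ _).mpr (h1 hw).2⟩
  · rintro _ ⟨w, hw, rfl⟩ _ ⟨w', hw', rfl⟩
    exact (H.cp_comm g _ _).mpr (h2 w hw w' hw')
  · intro W' hW' hc hle
    have e : H.cp g ⁻¹' W' = W := by
      refine h3 _ ?_ ?_ fun w hw => hle ⟨w, hw, rfl⟩
      · intro w hw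
        exact ⟨(H.cp_comm g _ _).mp (hW' hw).1, (H.cp_comm g _ _).mp (hW' hw).2⟩
      · intro w hw w' hw'
        exact (H.cp_comm g _ _).mp (hc _ hw _ hw')
    rw [← e, Equiv.image_preimage]

theorem max_card {a d a' d' : D} {W W' : Set D} (h : ¬ Commute (a : G) d)
    (h' : ¬ Commute (a' : G) d') (hW : H.IsMax (H.meet a d) W) (hW' : H.IsMax (H.meet a' d') W') :
    ∃ g : G, H.cp g a = a' ∧ H.cp g d = d' ∧ H.cp g '' W = W' := by
  obtain ⟨g, hga, hgd⟩ := H.tr0 _ a.2 _ d.2 _ a'.2 _ d'.2 h h'
  have ea : H.cp g a = a' := Subtype.ext hga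
  have ed : H.cp g d = d' := Subtype.ext hgd
  have hi := H.isMax_image (g := g) hW
  rw [ea, ed] at hi
  obtain ⟨k, hk, hkW⟩ := H.max_conj (H.meet_closed a' d') hi hW'
  have hfix : ∀ c : D, (∀ e ∈ H.meet a' d', Commute (c : G) e) → H.cp k c = c := by
    intro c hc
    have hle : Subgroup.closure (Subtype.val '' H.meet a' d') ≤ Subgroup.centralizer {(c : G)} := by
      rw [Subgroup.closure_le]
      rintro _ ⟨e, he, rfl⟩
      exact Subgroup.mem_centralizer_singleton_iff.mpr (hc e he).eq.symm
    refine Subtype.ext ?_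
    show k * c * k⁻¹ = c
    rw [Subgroup.mem_centralizer_singleton_iff.mp (hle hk), mul_inv_cancel_right]
  refine ⟨k * g, ?_, ?_, ?_⟩
  · rw [show H.cp (k * g) a = H.cp k (H.cp g a) from Subtype.ext (by simp [cp, mul_assoc]), ea]
    exact hfix a' fun e he => he.1
  · rw [show H.cp (k * g) d = H.cp k (H.cp g d) from Subtype.ext (by simp [cp, mul_assoc]), ed]
    exact hfix d' fun e he => he.2
  · rw [← hkW, Set.image_image]
    exact Set.image_congr fun c _ => Subtype.ext (by simp [cp, mul_assoc])

/-- The star of a maximal commuting set. -/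
def star (_H : Graph D n) (W : Set D) : Set D := {e | e ∉ W ∧ ∀ w ∈ W, Commute (e : G) w}

theorem star_facts {a d : D} {W : Set D} (had : ¬ Commute (a : G) d) (hW : H.IsMax (H.meet a d) W) :
    a ∈ H.star W ∧ d ∈ H.star W ∧
    (∀ x ∈ H.star W, ∀ y ∈ H.star W, ∀ z ∈ H.star W, Commute (x : G) y → Commute (y : G) z →
      Commute (x : G) z) ∧
    (∀ z ∈ H.star W, ∀ z' ∈ H.star W, ∀ e ∈ H.star W, Commute (z : G) z' →
      Commute ((H.f z e : D) : G) (H.f z' e : G)) := by
  have ha : a ∈ H.star W := ⟨fun h => had (hW.1 h).2.symm, fun w hw => (hW.1 hw).1⟩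
  have hd : d ∈ H.star W := ⟨fun h => had (hW.1 h).1, fun w hw => (hW.1 hw).2⟩
  have hsub : ∀ {x z : D}, x ∈ H.star W → z ∈ H.star W → W ⊆ H.meet x z := fun hx hz w hw =>
    ⟨hx.2 w hw, hz.2 w hw⟩
  have hmax : ∀ {x z : D}, x ∈ H.star W → z ∈ H.star W → ¬ Commute (x : G) z →
      H.IsMax (H.meet x z) W := by
    intro x z hx hz hxz
    obtain ⟨W'', hle, hW''⟩ := H.exists_max (hsub hx hz) hW.2.1
    obtain ⟨g, -, -, hg⟩ := H.max_card had hxz hW hW''
    have : W = W'' := Set.eq_of_subset_of_ncard_le hle (le_of_eq (by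
      rw [← hg, Set.ncard_image_of_injective _ (H.cp g).injective])) (Set.toFinite _)
    rwa [← this] at hW''
  have hequiv : ∀ x ∈ H.star W, ∀ y ∈ H.star W, ∀ z ∈ H.star W, Commute (x : G) y →
      Commute (y : G) z → Commute (x : G) z := by
    intro x hx y hy z hz hxy hyz
    by_contra hxz
    refine hy.1 ?_
    have := (hmax hx hz hxz).2.2 (insert y W) (Set.insert_subset ⟨hxy, hyz.symm⟩ (hsub hx hz)) (by
      rintro p (rfl | hp) q (rfl | hq)
      · exact Commute.refl _
      · exact hy.2 q hq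
      · exact (hy.2 p hp).symm
      · exact hW.2.1 p hp q hq) (Set.subset_insert _ _)
    rw [← this]; exact Set.mem_insert _ _
  refine ⟨ha, hd, hequiv, ?_⟩
  have hclosed : ∀ z ∈ H.star W, ∀ e ∈ H.star W, H.f z e ∈ H.star W := by
    intro z hz e he
    refine ⟨fun h => he.1 ?_, fun w hw => ((hz.2 w hw).mul_left (he.2 w hw)).mul_left (hz.2 w hw)⟩
    have h1 := H.fix (hz.2 _ h)
    rw [H.f_f] at h1
    rwa [h1]
  intro z hz z' hz' e he hzz'
  have := block_lemma (α := H.star W) (fun z e => ⟨H.f z e, hclosed z z.2 e e.2⟩)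
    (fun x y => Commute ((x : D) : G) (y : D)) ⟨fun _ => Commute.refl _, Commute.symm,
      fun {x y z} h h' => hequiv x x.2 y y.2 z z.2 h h'⟩
    (fun z a b h => by
      have h2 := (H.cp_comm ((z : D) : G) a b).mpr h
      have e : ∀ c : D, H.cp ((z : D) : G) c = H.f z c := fun c =>
        Subtype.ext (conj_eq (H.inv _ (z : D).2) _)
      rw [e, e] at h2; exact h2)
    (fun z a h => H.move h)
    (fun z a h => by simp only [H.fix h]; exact Commute.refl _)
    (fun z z' a h h' e => Subtype.ext (H.inj h h' (congrArg Subtype.val e)))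
    (fun x y x' y' h h' => by
      obtain ⟨g, hgx, hgy, hgW⟩ := H.max_card h h' (hmax x.2 y.2 h) (hmax x'.2 y'.2 h')
      have hiff : ∀ c : D, c ∈ H.star W ↔ H.cp g c ∈ H.star W := by
        intro c
        constructor
        · rintro ⟨h1, h2⟩
          refine ⟨fun hc => h1 ?_, fun w hw => ?_⟩
          · rw [← hgW] at hc; exact (H.cp g).injective.mem_set_image.mp hc
          · rw [← hgW] at hw; obtain ⟨v, hv, rfl⟩ := hw; exact (H.cp_comm g _ _).mpr (h2 v hv)
        · rintro ⟨h1, h2⟩
          refine ⟨fun hc => h1 ?_, fun w hw => ?_⟩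
          · rw [← hgW]; exact ⟨c, hc, rfl⟩
          · exact (H.cp_comm g _ _).mp (h2 _ (by rw [← hgW]; exact ⟨w, hw, rfl⟩))
      exact ⟨(H.cp g).subtypeEquiv hiff, fun a b => H.cp_comm g a b,
        fun a b => Subtype.ext (H.cp_f g a b), Subtype.ext hgx, Subtype.ext hgy⟩)
    ⟨z, hz⟩ ⟨z', hz'⟩ ⟨e, he⟩ hzz'
  exact this

theorem contradiction : False := by
  obtain ⟨a₀', ha₀, b₀', hb₀, hne₀, hc₀⟩ := H.exC
  obtain ⟨u₀, v₀, hnc₀⟩ := H.exists_noncomm
  obtain ⟨W₀, -, hW₀⟩ := H.exists_max (S := H.meet u₀ v₀) (W := ∅) (Set.empty_subset _) (by simp)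
  obtain ⟨hu, -, hequiv, hK⟩ := H.star_facts hnc₀ hW₀
  rcases W₀.eq_empty_or_nonempty with hemp | ⟨w₀, hw₀⟩
  · -- commuting is an equivalence
    subst hemp
    have hall : ∀ x : D, x ∈ H.star ∅ := fun x => ⟨Set.notMem_empty x, fun w hw => absurd hw (by simp)⟩
    let E : G → G → Prop := fun x y => Commute x y
    let K : Subgroup G :=
      { carrier := {g | ∀ x : D, Commute (x : G) (g * x * g⁻¹)}
        one_mem' := fun x => by simp
        mul_mem' := fun {g h} hg hh x => by
          have h1 := hh x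
          have h2 := hg (H.cp h x)
          have := hequiv x (hall _) (H.cp h x) (hall _) (H.cp g (H.cp h x)) (hall _) h1 h2
          show Commute (x : G) (g * h * x * (g * h)⁻¹)
          rw [show g * h * x * (g * h)⁻¹ = g * (h * x * h⁻¹) * g⁻¹ by group]
          exact this
        inv_mem' := fun {g} hg x => by
          have h1 := (hg (H.cp g⁻¹ x)).symm
          have : ((H.cp g⁻¹ x : D) : G) = g⁻¹ * x * g⁻¹⁻¹ := rfl
          rw [this] at h1
          rw [show g * (g⁻¹ * x * g⁻¹⁻¹) * g⁻¹ = (x : G) by group] at h1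
          exact h1 }
    haveI hKn : K.Normal := ⟨fun g hg k x => by
      have h1 : Commute ((H.cp k⁻¹ x : D) : G) (g * (H.cp k⁻¹ x : D) * g⁻¹) := hg (H.cp k⁻¹ x)
      have h2 := (H.cp_comm k (H.cp k⁻¹ x) (H.cp g (H.cp k⁻¹ x))).mpr h1
      have e1 : H.cp k (H.cp k⁻¹ x) = x := Subtype.ext (by simp [cp]; group)
      rw [e1] at h2
      show Commute (x : G) (k * g * k⁻¹ * x * (k * g * k⁻¹)⁻¹)
      rw [show k * g * k⁻¹ * x * (k * g * k⁻¹)⁻¹ = k * (g * (k⁻¹ * x * k⁻¹⁻¹) * g⁻¹) * k⁻¹ by group]
      exact h2⟩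
    set a : D := ⟨a₀', ha₀⟩ with had
    set b : D := ⟨b₀', hb₀⟩ with hbd
    let U := Subgroup.closure (Subtype.val '' {u : D | Commute (a : G) u}) ⊓ K
    haveI : Fact (Nat.Prime 2) := ⟨Nat.prime_two⟩
    have hcc : ∀ u v : D, Commute (a : G) u → Commute (a : G) v → Commute (u : G) v := fun u v h h' =>
      hequiv u (hall _) a (hall _) v (hall _) h.symm h'
    have hcent : ∀ z ∈ Subgroup.closure (Subtype.val '' {u : D | Commute (a : G) u}),
        ∀ w ∈ Subgroup.closure (Subtype.val '' {u : D | Commute (a : G) u}), Commute z w := by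
      intro z hz
      induction hz using Subgroup.closure_induction with
      | mem z hz =>
        obtain ⟨u, hu, rfl⟩ := hz
        intro w hw
        induction hw using Subgroup.closure_induction with
        | mem w hw => obtain ⟨v, hv, rfl⟩ := hw; exact hcc u v hu hv
        | one => exact Commute.one_right _
        | mul y y' _ _ h h' => exact h.mul_right h'
        | inv y _ h => exact h.inv_right
      | one => exact fun w _ => Commute.one_left _
      | mul y y' _ _ h h' => exact fun w hw => (h w hw).mul_left (h' w hw)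
      | inv y _ h => exact fun w hw => (h w hw).inv_left
    have hsq : ∀ z ∈ Subgroup.closure (Subtype.val '' {u : D | Commute (a : G) u}), z ^ 2 = 1 := by
      intro z hz
      induction hz using Subgroup.closure_induction with
      | mem z hz => obtain ⟨u, -, rfl⟩ := hz; rw [pow_two, involution_sq (H.inv u u.2)]
      | one => simp
      | mul y y' hy hy' h h' => rw [(hcent y hy y' hy').mul_pow, h, h', one_mul]
      | inv y _ h => rw [inv_pow, h, inv_one]
    have hU : IsPGroup 2 U := fun z => ⟨1, Subtype.ext (by simpa using hsq z z.2.1)⟩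
    have hUn : ∀ k ∈ K, ∀ u ∈ U, k * u * k⁻¹ ∈ U := by
      intro k hk u hu
      refine ⟨?_, hKn.conj_mem _ hu.2 k⟩
      have : Subgroup.closure (Subtype.val '' {u : D | Commute (a : G) u}) ≤
          (Subgroup.closure (Subtype.val '' {u : D | Commute (a : G) u})).comap
            (MulAut.conj k).toMonoidHom := by
        rw [Subgroup.closure_le]
        rintro _ ⟨v, hv, rfl⟩
        exact Subgroup.subset_closure ⟨H.cp k v,
          hequiv a (hall _) v (hall _) (H.cp k v) (hall _) hv (hk v), rfl⟩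
      exact this hu.1
    have hab : a ≠ b := fun e => hne₀ (congrArg Subtype.val e)
    have ht : (a : G) * b ∈ U := by
      refine ⟨mul_mem (Subgroup.subset_closure ⟨a, Commute.refl _, rfl⟩)
        (Subgroup.subset_closure ⟨b, hc₀, rfl⟩), ?_⟩
      intro x
      have h1 := hK a (hall _) b (hall _) x (hall _) hc₀
      have h2 := (H.cp_comm (a : G) _ _).mpr h1
      rw [show H.cp (a : G) (H.f a x) = x from Subtype.ext (by
        show (a : G) * ((a : G) * x * a) * (a : G)⁻¹ = x
        rw [involution_inv (H.inv a a.2)]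
        simp only [mul_assoc, involution_sq (H.inv a a.2), mul_one]
        exact mul_mul_self (H.inv a a.2) _)] at h2
      show Commute (x : G) ((a : G) * b * x * ((a : G) * b)⁻¹)
      rw [mul_inv_rev, involution_inv (H.inv b b.2)]
      convert h2 using 1
      simp only [cp, f, Equiv.coe_fn_mk, mul_assoc]
    have hbot := H.toSetup.eq_bot_of_normal_in hKn inf_le_right hU hUn
    rw [show U = ⊥ from hbot, Subgroup.mem_bot] at ht
    exact hne₀ ((eq_inv_of_mul_eq_one_left ht).trans (involution_inv (H.inv b b.2)))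
  · obtain ⟨a', b', x', hab', hcab', hxa', hxb', hgood⟩ := H.exists_good
    obtain ⟨a, b, c, e, hab, hac, hae, hbc, hbe, hce, cab, cac, cae, cbc, cbe, cce, hprod⟩ :=
      H.four hab' hcab' hxa' hxb' hgood
    have hne' : w₀ ≠ u₀ := fun h => hu.1 (h ▸ hw₀)
    obtain ⟨g, hgw, hgu⟩ := H.tr1 _ w₀.2 _ u₀.2 _ a.2 _ b.2 (fun h => hne' (Subtype.ext h))
      (hu.2 w₀ hw₀).symm (fun h => hab (Subtype.ext h)) cab
    have ew : H.cp g w₀ = a := Subtype.ext hgw
    have eu : H.cp g u₀ = b := Subtype.ext hgu
    set d := H.cp g v₀ with hd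
    set W := H.cp g '' W₀ with hWd
    have hW : H.IsMax (H.meet b d) W := by rw [← eu]; exact H.isMax_image hW₀
    have hbd : ¬ Commute (b : G) d := by rw [← eu, hd, H.cp_comm]; exact hnc₀
    obtain ⟨hbs, hds, hequiv', hK'⟩ := H.star_facts hbd hW
    have haW : a ∈ W := ⟨w₀, hw₀, ew⟩
    -- a member commuting with two of the four commutes with all
    have key : ∀ y : D, Commute (y : G) a → Commute (y : G) b →
        Commute (y : G) c ∧ Commute (y : G) e := by
      intro y hya hyb
      have hyt : Commute (y : G) ((c : G) * e) := hprod ▸ hya.mul_right hyb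
      by_cases hyc : Commute (y : G) c
      · refine ⟨hyc, ?_⟩
        have := (hyc.inv_right).mul_right hyt
        rwa [inv_mul_cancel_left] at this
      · exfalso
        by_cases hye : Commute (y : G) e
        · apply hyc
          have := hyt.mul_right hye.inv_right
          rwa [mul_inv_cancel_right] at this
        · have hh : H.f c y = H.f e y := by
            refine Subtype.ext ?_
            show (c : G) * y * c = (e : G) * y * e
            have h2 : (c : G) * e * y = y * ((c : G) * e) := hyt.eq.symm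
            have h3 : (c : G) * y = e * (y * ((c : G) * e)) := by
              rw [← h2, cce.eq]
              simp only [mul_assoc, mul_mul_self (H.inv e e.2)]
            rw [h3, cce.eq]
            simp only [mul_assoc, involution_sq (H.inv c c.2), mul_one]
          exact hce (H.inj (fun h => hyc h.symm) (fun h => hye h.symm) hh)
    have hdW : ∀ w ∈ W, Commute (w : G) c ∧ Commute (w : G) e := fun w hw =>
      key w (hW.2.1 w hw a haW) (hbs.2 w hw).symm
    have hcd : ∀ z z' : D, z ∈ ({c, e} : Set D) → (a : G) * b = (z : G) * z' → Commute (z : G) z' →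
        z ∈ W → False := by
      intro z z' hz hzz hcz hzW
      have hda : Commute (d : G) a := hds.2 a haW
      have hdz : Commute (d : G) z := hds.2 z hzW
      by_cases hdz' : Commute (d : G) z'
      · have h1 := hda.inv_right.mul_right (hdz.mul_right hdz')
        rw [← hzz, inv_mul_cancel_left] at h1
        exact hbd h1.symm
      · have hh : H.f b d = H.f z' d := by
          refine Subtype.ext ?_
          show (b : G) * d * b = (z' : G) * d * z'
          have e1 : (a : G) * b * d * ((a : G) * b)⁻¹ = (b : G) * d * b := by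
            rw [cab.eq, mul_inv_rev, involution_inv (H.inv b b.2), mul_assoc (b : G) a, hda.eq.symm]
            group
          have e2 : (z : G) * z' * d * ((z : G) * z')⁻¹ = (z' : G) * d * z' := by
            rw [hcz.eq, mul_inv_rev, involution_inv (H.inv z' z'.2), mul_assoc (z' : G) z, hdz.eq.symm]
            group
          rw [← e1, hzz, e2]
        have hv : (b : G) = z' := congrArg Subtype.val (H.inj hbd (fun h => hdz' h.symm) hh)
        have haz : (a : G) = z := mul_right_cancel (hzz.trans (by rw [hv]))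
        rcases hz with rfl | rfl
        · exact hac (Subtype.ext haz)
        · exact hae (Subtype.ext haz)
    have hcs : c ∈ H.star W := ⟨fun h => hcd c e (Or.inl rfl) hprod cce h, fun w hw => (hdW w hw).1.symm⟩
    have hes : e ∈ H.star W := ⟨fun h => hcd e c (Or.inr rfl) (hprod.trans cce.eq) cce.symm h,
      fun w hw => (hdW w hw).2.symm⟩
    have hda : Commute (d : G) a := hds.2 a haW
    have hde : ¬ Commute (d : G) e := fun h =>
      hbd (hequiv' b hbs e hes d hds cbe h.symm)
    have hk := hK' b hbs c hcs d hds cbc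
    refine H.move (z := e) (a := d) (fun h => hde h.symm) ?_
    have h2 := (H.cp_comm (c : G) _ _).mpr hk
    rw [show H.cp (c : G) (H.f c d) = d from Subtype.ext (by
      show (c : G) * ((c : G) * d * c) * (c : G)⁻¹ = d
      rw [involution_inv (H.inv c c.2)]
      simp only [mul_assoc, involution_sq (H.inv c c.2), mul_one]
      exact mul_mul_self (H.inv c c.2) _)] at h2
    have e1 : H.cp (c : G) (H.f b d) = H.f e d := by
      refine Subtype.ext ?_
      show (c : G) * ((b : G) * d * b) * (c : G)⁻¹ = (e : G) * d * e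
      have e2 : (c : G) * b = (e : G) * a := by
        have : (b : G) = (a : G) * ((c : G) * e) := by rw [← hprod, mul_mul_self (H.inv a a.2)]
        rw [this, ← mul_assoc, ← cac.eq, mul_assoc, mul_mul_self (H.inv c c.2), cae.eq]
      have e3 : (b : G) * (c : G)⁻¹ = (a : G) * e := by
        rw [involution_inv (H.inv c c.2), cbc.eq, e2, cae.eq]
      rw [show (c : G) * ((b : G) * d * b) * (c : G)⁻¹ = ((c : G) * b) * d * ((b : G) * (c : G)⁻¹) by
        group, e2, e3, show (e : G) * a * d * ((a : G) * e) = (e : G) * ((a : G) * d * a) * e by group,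
        (commute_iff (H.inv a a.2)).mp hda.symm]
    rw [e1] at h2
    exact h2.symm

end CfsgLib.RankThreeInv.Graph
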