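import Cfsg.Agent.Lib.RankThreeInv.Params
import Cfsg.Agent.Lib.RankThreeInv.Arith

/-!
Consequences of the parameters: the sum of the two eigenvalues divides their product
(owner: helper8).
-/

set_option autoImplicit false

namespace CfsgLib.RankThreeInv

open CfsgLib.Signalizer

variable {G : Type*} [Group G] [Finite G] {D : Set G} [Fintype D] [DecidableEq D] {p q : ℕ}
  {x y z : G}

namespace Iso

variable (H : Iso D p q x y z)
include H

omit [Fintype D] [DecidableEq D] in
theorem relMat_transpose {R : Type*} [Zero R] [One R] (r : ℕ) :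
    (relMat D R r).transpose = relMat D R r := by
  ext a b
  simp only [Matrix.transpose_apply, relMat, Matrix.of_apply, H.rel_symm r b a]

omit [Fintype D] [DecidableEq D] in
theorem relMat_cp {R : Type*} [Zero R] [One R] (r : ℕ) (g : G) (a b : D) :
    relMat D R r (H.cp g a) (H.cp g b) = relMat D R r a b := by
  simp only [relMat, Matrix.of_apply, H.order_cp]

omit [Fintype D] [DecidableEq D] in
theorem ne_of_rel {r : ℕ} (hr : r ≠ 1) {a b : D} (h : orderOf ((a : G) * b) = r) : a ≠ b := by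
  rintro rfl
  rw [involution_sq (H.inv a a.2), orderOf_one] at h
  exact hr h.symm

omit [Fintype D] [DecidableEq D] in
theorem cp_mul (g k : G) (a : D) : H.cp (g * k) a = H.cp g (H.cp k a) :=
  Subtype.ext (by simp [cp, mul_assoc])

omit [Fintype D] [DecidableEq D] in
theorem f_f (m a : D) : H.f m (H.f m a) = a := Subtype.ext (by
  show (m : G) * ((m : G) * a * m) * m = a
  simp [mul_assoc, mul_mul_self (H.inv m m.2), involution_sq (H.inv m m.2)])

omit [Fintype D] [DecidableEq D] in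
theorem cp_self (m : G) (hm : orderOf m = 2) (a : D) : H.cp m (H.cp m a) = a := by
  rw [← H.cp_mul, involution_sq hm]
  exact Subtype.ext (by simp [cp])

end Iso

namespace Params

variable {H : Iso D p q x y z} {α β X Y : ℕ} (hP : Params H α β X Y)
include hP

theorem swap : Params H.swap β α Y X where
  oddα := hP.oddβ
  oddβ := hP.oddα
  oddX := hP.oddY
  oddY := hP.oddX
  hv := by rw [hP.hv, mul_comm]
  row := hP.row'
  row' := hP.row
  eq := by
    have h := congrArg Matrix.transpose hP.eq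
    rw [Matrix.transpose_mul, Matrix.transpose_add, Matrix.transpose_add, Matrix.transpose_smul,
      Matrix.transpose_smul, Matrix.transpose_one, H.relMat_transpose, H.relMat_transpose,
      Matrix.transpose_smul] at h
    rw [h, mul_comm (X : ℤ)]
    rfl

theorem hvI : ((p : ℤ) ^ α) * (q : ℤ) ^ β =
    1 + (X : ℤ) * ((p : ℤ) ^ α - 1) + (Y : ℤ) * ((q : ℤ) ^ β - 1) := by
  have h := congrArg (fun M : Matrix D D ℤ => ∑ b, M ⟨x, H.hx⟩ b) (H.one_add_add (R := ℤ))
  simp only [Matrix.add_apply, Finset.sum_add_distrib, hP.row, hP.row', Matrix.one_apply,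
    Finset.sum_ite_eq, Finset.mem_univ, if_true, Matrix.of_apply, Finset.sum_const, nsmul_eq_mul,
    mul_one, Finset.card_univ, hP.hv] at h
  exact h.symm

theorem one_lt_pow : 1 < p ^ α := Nat.one_lt_pow hP.oddα.pos.ne' H.hp.one_lt

theorem mul_J {R : Type*} [CommRing R] :
    relMat D R p * (Matrix.of fun _ _ => (1 : R)) =
      ((X : R) * ((p : R) ^ α - 1)) • Matrix.of fun _ _ => (1 : R) := by
  ext a b
  have h := congrArg (fun n : ℤ => (n : R)) (hP.row a)
  simp only [relMat, Matrix.of_apply] at h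
  push_cast at h
  simp [relMat, Matrix.mul_apply, h]

theorem mul_self : relMat D ℤ p * relMat D ℤ p = ((X : ℤ) * ((Y : ℤ) - 1)) • (1 : Matrix D D ℤ) +
    ((Y : ℤ) - X - 1) • relMat D ℤ p +
    ((X : ℤ) * ((p : ℤ) ^ α - Y)) • Matrix.of fun _ _ => (1 : ℤ) := by
  have hB : relMat D ℤ q = (Matrix.of fun _ _ => (1 : ℤ)) - 1 - relMat D ℤ p :=
    eq_sub_of_add_eq (by
      rw [add_comm]
      exact eq_sub_of_add_eq' (by rw [← add_assoc]; exact H.one_add_add))
  have h := hP.eq
  rw [hB] at h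
  simp only [add_mul, mul_add, mul_sub, Matrix.smul_mul, Matrix.mul_smul, Matrix.one_mul,
    Matrix.mul_one, hP.mul_J, smul_smul, smul_sub] at h
  rw [← sub_eq_zero] at h ⊢
  rw [← neg_eq_zero, ← h]
  match_scalars <;> ring

/-- The congruence for the members moved along the `p`-relation by a fixed point free
automorphism of the relation. -/
theorem trace_dvd (σ : D ≃ D)
    (hσ : ∀ a b, relMat D ℚ p (σ a) (σ b) = relMat D ℚ p a b) (hfix : ∀ a, σ a ≠ a) :
    (X : ℤ) + Y - 1 ∣
      ((Finset.univ.filter fun e : D => orderOf ((e : G) * (σ e : D)) = p).card : ℤ) -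
        (X : ℤ) * (p : ℤ) ^ α := by
  have hXp : 0 < X := hP.oddX.pos
  have hYp : 0 < Y := hP.oddY.pos
  set N : ℚ := (X : ℚ) + Y - 1 with hN
  have hN0 : N ≠ 0 := by
    have h1 : (1 : ℚ) ≤ X := by exact_mod_cast hXp
    have h2 : (1 : ℚ) ≤ Y := by exact_mod_cast hYp
    rw [hN]; linarith
  have hQ0 : ((q : ℚ) ^ β) ≠ 0 := pow_ne_zero _ (by exact_mod_cast H.hq.ne_zero)
  have hvQ : (p : ℚ) ^ α * (q : ℚ) ^ β =
      1 + (X : ℚ) * ((p : ℚ) ^ α - 1) + (Y : ℚ) * ((q : ℚ) ^ β - 1) := by exact_mod_cast hP.hvI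
  have hcardQ : (Fintype.card D : ℚ) = (p : ℚ) ^ α * (q : ℚ) ^ β := by exact_mod_cast hP.hv
  set A : Matrix D D ℚ := relMat D ℚ p with hA
  have hmap : (relMat D ℤ p).map (Int.castRingHom ℚ) = A := by
    ext a b; simp [relMat, hA, apply_ite]
  have hAA : A * A = ((X : ℚ) * ((Y : ℚ) - 1)) • (1 : Matrix D D ℚ) + ((Y : ℚ) - X - 1) • A +
      ((X : ℚ) * ((p : ℚ) ^ α - Y)) • allOne := by
    rw [← hmap, ← Matrix.map_mul, hP.mul_self, hmap]
    ext a b
    simp only [Matrix.map_apply, Matrix.add_apply, Matrix.smul_apply, Matrix.of_apply, smul_eq_mul,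
      allOne, hA, relMat, Matrix.one_apply]
    split_ifs <;> simp
  have hAJ : A * allOne = ((X : ℚ) * ((p : ℚ) ^ α - 1)) • allOne := hP.mul_J
  have hJA : allOne * A = ((X : ℚ) * ((p : ℚ) ^ α - 1)) • allOne := by
    have h := congrArg Matrix.transpose hAJ
    rw [Matrix.transpose_mul, Matrix.transpose_smul, hA, H.relMat_transpose] at h
    exact h
  set c : ℚ := -(X : ℚ) / (q : ℚ) ^ β with hc
  set F : Matrix D D ℚ := ((X : ℚ) / N) • (1 : Matrix D D ℚ) + (1 / N) • A + (c / N) • allOne with hF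
  have hFF : F * F = F := by
    rw [hF]
    simp only [add_mul, mul_add, Matrix.smul_mul, Matrix.mul_smul, Matrix.one_mul, Matrix.mul_one,
      hAA, hAJ, hJA, allOne_mul_allOne, hcardQ, smul_smul, smul_add]
    match_scalars
    · rw [hN] at hN0 ⊢; field_simp; ring
    · rw [hN] at hN0 ⊢; field_simp; ring
    · rw [hc, hN]; rw [hN] at hN0; field_simp
      linear_combination hvQ
  have hinv : ∀ i j, F (σ i) (σ j) = F i j := fun i j => by
    simp only [hF, Matrix.add_apply, Matrix.smul_apply, allOne, Matrix.of_apply, hσ,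
      Matrix.one_apply, σ.injective.eq_iff]
  obtain ⟨t, ht⟩ := trace_int (orderOf_pos σ).ne' (idem_mul_pm hFF hinv)
  rw [hF, trace_comb, Finset.filter_false_of_mem fun i _ => hfix i] at ht
  have hsum : ∑ i, A i (σ.symm i) =
      ((Finset.univ.filter fun e : D => orderOf ((e : G) * (σ e : D)) = p).card : ℚ) := by
    rw [Finset.card_filter, Nat.cast_sum]
    refine (Fintype.sum_equiv σ _ _ fun e => ?_).symm
    simp only [σ.symm_apply_apply, hA, relMat, Matrix.of_apply, H.rel_symm p (σ e) e]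
    split_ifs <;> simp
  rw [hsum, hcardQ, Finset.card_empty, Nat.cast_zero, mul_zero, zero_add, hc] at ht
  refine ⟨t, ?_⟩
  field_simp at ht
  have key : ((Finset.univ.filter fun e : D => orderOf ((e : G) * (σ e : D)) = p).card : ℚ) -
      (X : ℚ) * (p : ℚ) ^ α = ((X : ℚ) + Y - 1) * t := by
    apply mul_left_cancel₀ hQ0
    rw [hN] at ht
    linear_combination (q : ℚ) ^ β * ht
  exact_mod_cast key

theorem dvd_mul : (X : ℤ) + Y - 1 ∣ (X : ℤ) * Y := by
  let R : ℕ → D → D → Prop := fun r a b => orderOf ((a : G) * b) = r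
  let Rel : ℕ → Finset (D × D) := fun r => Finset.univ.filter fun w => R r w.1 w.2
  let φ : D → D × D → D × D := fun e w => (H.f w.1 e, H.f w.2 e)
  have hφ : ∀ e, Function.Bijective (φ e) := fun e => (H.f_inj e).prodMap (H.f_inj e)
  -- per member, the two kinds of exchanged pairs are equally many
  have hper : ∀ e, ((Rel p).filter fun w => R q (φ e w).1 (φ e w).2).card =
      ((Rel q).filter fun w => R p (φ e w).1 (φ e w).2).card := by
    intro e
    have h1 : (Finset.univ.filter fun w => R p (φ e w).1 (φ e w).2).card = (Rel p).card :=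
      Finset.card_equiv (Equiv.ofBijective _ (hφ e)) fun w => by simp [Rel]
    have h2 := Finset.card_filter_add_card_filter_not (s := Rel p)
      (fun w => R p (φ e w).1 (φ e w).2)
    have h3 := Finset.card_filter_add_card_filter_not
      (s := Finset.univ.filter fun w => R p (φ e w).1 (φ e w).2) (fun w => R p w.1 w.2)
    have e1 : ((Finset.univ.filter fun w => R p (φ e w).1 (φ e w).2).filter fun w => R p w.1 w.2) =
        (Rel p).filter fun w => R p (φ e w).1 (φ e w).2 := by
      rw [Finset.filter_comm]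
    have e2 : ((Rel p).filter fun w => ¬ R p (φ e w).1 (φ e w).2) =
        (Rel p).filter fun w => R q (φ e w).1 (φ e w).2 := by
      refine Finset.filter_congr fun w hw => ?_
      have hne : H.f w.1 e ≠ H.f w.2 e := (H.f_inj e).1.ne
        (H.ne_of_rel H.hp.ne_one (Finset.mem_filter.mp hw).2)
      exact ⟨fun h => ((H.rel_cases _ _).resolve_left hne).resolve_left h,
        fun h h' => H.hpq (h'.symm.trans h)⟩
    have e3 : ((Finset.univ.filter fun w => R p (φ e w).1 (φ e w).2).filter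
        fun w => ¬ R p w.1 w.2) = (Rel q).filter fun w => R p (φ e w).1 (φ e w).2 := by
      rw [Finset.filter_filter, Finset.filter_filter]
      refine Finset.filter_congr fun w _ => ⟨fun h => ⟨?_, h.1⟩, fun h => ⟨h.2, fun h' => H.hpq (h'.symm.trans h.1)⟩⟩
      have hne : w.1 ≠ w.2 := fun e' => H.ne_of_rel H.hp.ne_one h.1 (by simp [φ, e'])
      exact ((H.rel_cases _ _).resolve_left hne).resolve_left h.2
    rw [e1, e3, h1] at h3
    rw [e2] at h2
    omega
  -- the numbers seen from a pair do not depend on the pair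
  have hconst : ∀ (r s : ℕ) (a₀ b₀ : D),
      (∀ a b a' b' : D, R r a b → R r a' b' → ∃ g : G, H.cp g a = a' ∧ H.cp g b = b') →
      R r a₀ b₀ → ∑ e, ((Rel r).filter fun w => R s (φ e w).1 (φ e w).2).card =
        (Rel r).card * (Finset.univ.filter fun e => R s (H.f a₀ e) (H.f b₀ e)).card := by
    intro r s a₀ b₀ htr h₀
    simp only [Finset.card_filter (fun w : D × D => R s (φ _ w).1 (φ _ w).2)]
    rw [Finset.sum_comm, ← smul_eq_mul, ← Finset.sum_const]
    refine Finset.sum_congr rfl fun w hw => ?_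
    obtain ⟨g, ha, hb⟩ := htr a₀ b₀ w.1 w.2 h₀ (Finset.mem_filter.mp hw).2
    rw [← Finset.card_filter]
    refine (Finset.card_equiv (H.cp g) fun e => ?_).symm
    simp only [Finset.mem_filter, Finset.mem_univ, true_and, φ, R]
    rw [← ha, ← hb, ← H.cp_f, ← H.cp_f, H.order_cp]
  set x₀ : D := ⟨x, H.hx⟩ with hx₀
  set y₀ : D := ⟨y, H.hy⟩ with hy₀
  set z₀ : D := ⟨z, H.hz⟩ with hz₀
  have hp' := hconst p q x₀ y₀ (fun a b a' b' h h' => by
    obtain ⟨g, h1, h2⟩ := H.trP a a.2 b b.2 a' a'.2 b' b'.2 h h'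
    exact ⟨g, Subtype.ext h1, Subtype.ext h2⟩) H.hxy
  have hq' := hconst q p x₀ z₀ (fun a b a' b' h h' => by
    obtain ⟨g, h1, h2⟩ := H.trQ a a.2 b b.2 a' a'.2 b' b'.2 h h'
    exact ⟨g, Subtype.ext h1, Subtype.ext h2⟩) H.hxz
  rw [Finset.sum_congr rfl fun e _ => hper e] at hp'
  set TB := (Finset.univ.filter fun e => R q (H.f x₀ e) (H.f y₀ e)).card with hTB
  set TA := (Finset.univ.filter fun e => R p (H.f x₀ e) (H.f z₀ e)).card with hTA
  have hcardR : ∀ r, ((Rel r).card : ℤ) = ∑ a, ∑ b, relMat D ℤ r a b := fun r => by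
    rw [← Fintype.sum_prod_type' (f := fun a b => relMat D ℤ r a b)]
    simp [Rel, R, relMat, Finset.sum_boole]
  have hcp := hcardR p
  have hcq := hcardR q
  rw [Finset.sum_congr rfl fun a _ => hP.row a, Finset.sum_const, Finset.card_univ, nsmul_eq_mul] at hcp
  rw [Finset.sum_congr rfl fun a _ => hP.row' a, Finset.sum_const, Finset.card_univ, nsmul_eq_mul] at hcq
  have hT : (X : ℤ) * ((p : ℤ) ^ α - 1) * TB = (Y : ℤ) * ((q : ℤ) ^ β - 1) * TA := by
    have h := congrArg (fun n : ℕ => (n : ℤ)) (hp'.symm.trans hq')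
    push_cast at h
    rw [hcp, hcq] at h
    refine mul_left_cancel₀ (a := (Fintype.card D : ℤ)) ?_ (by linear_combination h)
    exact_mod_cast (Fintype.card_pos_iff.mpr ⟨x₀⟩).ne'
  -- the congruences
  have hpair : ∀ (r : ℕ) (a b e : D),
      R r (H.f a e) (H.f b e) ↔ orderOf ((e : G) * (H.cp ((b : G) * a) e : D)) = r := by
    intro r a b e
    show orderOf _ = r ↔ _
    rw [← H.order_cp (b : G) (H.f a e) (H.f b e), H.cp_eq_f b (H.f b e), H.f_f, H.cp_mul,
      H.cp_eq_f a e, H.rel_symm r]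
  have hnofix : ∀ a b e : D, a ≠ b → H.cp ((b : G) * a) e ≠ e := by
    intro a b e hab h
    rw [H.cp_mul, H.cp_eq_f a e, H.cp_eq_f b] at h
    refine hab ((H.f_inj e).1 ?_)
    show H.f a e = H.f b e
    conv_rhs => rw [← h]
    rw [H.f_f]
  have dB := hP.swap.trace_dvd (H.cp ((y₀ : G) * x₀)) (fun a b => H.relMat_cp q _ a b)
    fun e => hnofix x₀ y₀ e (H.ne_of_rel H.hp.ne_one H.hxy)
  have dA := hP.trace_dvd (H.cp ((z₀ : G) * x₀)) (fun a b => H.relMat_cp p _ a b)
    fun e => hnofix x₀ z₀ e (H.ne_of_rel H.hq.ne_one H.hxz)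
  rw [Finset.filter_congr fun e _ => (hpair q x₀ y₀ e).symm, ← hTB, add_comm (Y : ℤ)] at dB
  rw [Finset.filter_congr fun e _ => (hpair p x₀ z₀ e).symm, ← hTA] at dA
  have hP1 : (p : ℤ) ^ α ≠ 1 := by exact_mod_cast hP.one_lt_pow.ne'
  have hQ1 : (q : ℤ) ^ β ≠ 1 := by exact_mod_cast hP.swap.one_lt_pow.ne'
  have hc : IsCoprime ((p : ℤ) ^ α) ((q : ℤ) ^ β) := by
    have := Nat.Coprime.pow α β ((Nat.coprime_primes H.hp H.hq).mpr H.hpq)
    exact_mod_cast Nat.Coprime.isCoprime this
  exact Arith.dvd_xy hP.hvI hP1 hQ1 hc hT dB dA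

end Params

end CfsgLib.RankThreeInv
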