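import Cfsg.Agent.Lib.RankThreeInv.Count

/-!
The orientation of a relation given by the odd core, and the commutation of the invariant
matrices (owner: helper8).
-/

set_option autoImplicit false

namespace CfsgLib.RankThreeInv

open CfsgLib.Signalizer

namespace Iso

variable {G : Type*} [Group G] [Finite G] {D : Set G} {p q : ℕ} {x y z : G}
  (H : Iso D p q x y z)
include H

theorem exists_mid (a b : D) : ∃ l : D, H.cp (l : G) a = b ∧ H.cp (l : G) b = a := by
  obtain ⟨l, hl⟩ := (H.f_inj a).2 b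
  refine ⟨l, (H.cp_eq_f l a).trans hl, ?_⟩
  rw [← hl, H.cp_eq_f]
  exact H.f_f l a

/-- A matrix invariant under the odd core. -/
def Inv (_H : Iso D p q x y z) (M : Matrix D D ℤ) : Prop :=
  ∀ n ∈ Cfsg.oddCore G, ∀ a b, M (_H.cp n a) (_H.cp n b) = M a b

variable {H}

theorem Inv.swap_eval {M : Matrix D D ℤ} (hM : H.Inv M) (k : D) (a b : D) :
    M (H.cp (k : G) a) (H.cp (k : G) b) = M b a := by
  obtain ⟨l, hla, hlb⟩ := H.exists_mid a b
  have h := hM ((k : G) * l) (H.core k k.2 l l.2) b a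
  rwa [H.cp_mul, H.cp_mul, hlb, hla] at h

theorem Inv.mul [Fintype D] {M M' : Matrix D D ℤ} (hM : H.Inv M) (hM' : H.Inv M') :
    H.Inv (M * M') := by
  intro n hn a b
  simp only [Matrix.mul_apply]
  refine (Fintype.sum_equiv (H.cp n) _ _ fun w => ?_).symm
  rw [hM n hn, hM' n hn]

theorem Inv.comm [Fintype D] {M M' : Matrix D D ℤ} (hM : H.Inv M) (hM' : H.Inv M') :
    M * M' = M' * M := by
  ext a b
  simp only [Matrix.mul_apply]
  obtain ⟨m, hma, hmb⟩ := H.exists_mid a b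
  refine (Fintype.sum_equiv (H.cp (m : G)) _ _ fun w => ?_).symm
  have h1 : M a (H.cp (m : G) w) = M w b := by
    conv_lhs => rw [← hmb]
    exact hM.swap_eval m b w
  have h2 : M' (H.cp (m : G) w) b = M' a w := by
    conv_lhs => rw [← hma]
    exact hM'.swap_eval m w a
  rw [h1, h2]
  ring

variable (H)

theorem inv_one [DecidableEq D] : H.Inv 1 := fun n _ a b => by
  simp only [Matrix.one_apply, (H.cp n).injective.eq_iff]

theorem inv_rel (r : ℕ) : H.Inv (relMat D ℤ r) := fun n _ a b => H.relMat_cp r n a b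

theorem inv_allOnes : H.Inv (Matrix.of fun _ _ => (1 : ℤ)) := fun _ _ _ _ => rfl

/-- The orientation: the pairs moved from `(x, y)` by the odd core. -/
def Or (_H : Iso D p q x y z) (a b : D) : Prop :=
  ∃ n ∈ Cfsg.oddCore G, n * x * n⁻¹ = (a : G) ∧ n * y * n⁻¹ = (b : G)

theorem or_cp {n : G} (hn : n ∈ Cfsg.oddCore G) {a b : D} :
    H.Or (H.cp n a) (H.cp n b) ↔ H.Or a b := by
  constructor
  · rintro ⟨k, hk, h1, h2⟩
    change k * x * k⁻¹ = n * (a : G) * n⁻¹ at h1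
    change k * y * k⁻¹ = n * (b : G) * n⁻¹ at h2
    refine ⟨n⁻¹ * k, mul_mem (inv_mem hn) hk, ?_, ?_⟩
    · rw [show n⁻¹ * k * x * (n⁻¹ * k)⁻¹ = n⁻¹ * (k * x * k⁻¹) * n by group, h1]; group
    · rw [show n⁻¹ * k * y * (n⁻¹ * k)⁻¹ = n⁻¹ * (k * y * k⁻¹) * n by group, h2]; group
  · rintro ⟨k, hk, h1, h2⟩
    refine ⟨n * k, mul_mem hn hk, ?_, ?_⟩
    · show _ = n * (a : G) * n⁻¹
      rw [← h1]; group
    · show _ = n * (b : G) * n⁻¹
      rw [← h2]; group

theorem or_rel {a b : D} (h : H.Or a b) : orderOf ((a : G) * b) = p := by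
  obtain ⟨n, -, h1, h2⟩ := h
  rw [← h1, ← h2, show n * x * n⁻¹ * (n * y * n⁻¹) = n * (x * y) * n⁻¹ by group, orderOf_conj,
    H.hxy]

theorem or_not_both {a b : D} (h : H.Or a b) : ¬ H.Or b a := by
  obtain ⟨n, hn, h1, h2⟩ := h
  rintro ⟨k, hk, h3, h4⟩
  set u := n⁻¹ * k with hu
  have hux : u * x * u⁻¹ = y := by
    rw [hu, show n⁻¹ * k * x * (n⁻¹ * k)⁻¹ = n⁻¹ * (k * x * k⁻¹) * n by group, h3, ← h2]; group
  have huy : u * y * u⁻¹ = x := by
    rw [hu, show n⁻¹ * k * y * (n⁻¹ * k)⁻¹ = n⁻¹ * (k * y * k⁻¹) * n by group, h4, ← h1]; group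
  have h5 : Commute (u ^ 2) x := by
    show u ^ 2 * x = x * u ^ 2
    have e : u ^ 2 * x * (u ^ 2)⁻¹ = x := by
      rw [pow_two, show u * u * x * (u * u)⁻¹ = u * (u * x * u⁻¹) * u⁻¹ by group, hux, huy]
    exact mul_inv_eq_iff_eq_mul.mp e
  have hodd : Odd (orderOf u) := by
    refine Odd.of_dvd_nat (H.toSetup.odd_card_le le_rfl) ?_
    have := orderOf_dvd_natCard (⟨u, mul_mem (inv_mem hn) hk⟩ : Cfsg.oddCore G)
    rwa [← Subgroup.orderOf_coe] at this
  have h6 : Commute u x := by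
    have e : u = (u ^ 2) ^ ((orderOf u + 1) / 2) := by
      rw [← pow_mul, Nat.mul_div_cancel' hodd.add_one.two_dvd, pow_succ, pow_orderOf_eq_one, one_mul]
    rw [e]; exact h5.pow_left _
  rw [h6.eq, mul_inv_cancel_right] at hux
  have := H.hxy
  rw [← hux, involution_sq (H.inv x H.hx), orderOf_one] at this
  exact H.hp.ne_one this.symm

theorem or_cases {a b : D} (h : orderOf ((a : G) * b) = p) : H.Or a b ∨ H.Or b a := by
  obtain ⟨g, h1, h2⟩ := H.trP x H.hx y H.hy a a.2 b b.2 H.hxy h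
  rcases H.mem_or g with hg | hg
  · exact Or.inl ⟨g, hg, h1, h2⟩
  · obtain ⟨m, hma, hmb⟩ := H.exists_mid ⟨x, H.hx⟩ ⟨y, H.hy⟩
    have ema : (m : G) * x * (m : G)⁻¹ = y := congrArg Subtype.val hma
    have emb : (m : G) * y * (m : G)⁻¹ = x := congrArg Subtype.val hmb
    have hgm : g * m ∈ Cfsg.oddCore G := by
      have h3 := (Cfsg.pPrimeCore_normal 2 G).conj_mem _ hg x
      rw [involution_inv (H.inv x H.hx), mul_mul_self (H.inv x H.hx)] at h3
      have h4 := mul_mem h3 (H.core x H.hx m m.2)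
      rwa [show g * x * (x * (m : G)) = g * (x * (x * (m : G))) by group,
        mul_mul_self (H.inv x H.hx)] at h4
    refine Or.inr ⟨g * m, hgm, ?_, ?_⟩
    · rw [show g * m * x * (g * m)⁻¹ = g * (m * x * (m : G)⁻¹) * g⁻¹ by group, ema, h2]
    · rw [show g * m * y * (g * m)⁻¹ = g * (m * y * (m : G)⁻¹) * g⁻¹ by group, emb, h1]

open Classical in
/-- The skew matrix of the orientation. -/
noncomputable def skew : Matrix D D ℤ :=
  Matrix.of fun a b => (if H.Or a b then 1 else 0) - (if H.Or b a then 1 else 0)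

theorem skew_neg (a b : D) : H.skew b a = -H.skew a b := by simp [skew]

theorem inv_skew : H.Inv H.skew := fun n hn a b => by
  classical
  simp only [skew, Matrix.of_apply]
  rw [if_congr (H.or_cp hn) rfl rfl, if_congr (H.or_cp hn) rfl rfl]

theorem skew_of_or {a b : D} (h : H.Or a b) : H.skew a b = 1 := by
  simp [skew, h, H.or_not_both h]

theorem skew_zero {a b : D} (h : orderOf ((a : G) * b) ≠ p) : H.skew a b = 0 := by
  have h1 : ¬ H.Or a b := fun e => h (H.or_rel e)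
  have h2 : ¬ H.Or b a := fun e => h ((H.rel_symm p a b).mpr (H.or_rel e))
  simp [skew, h1, h2]

theorem skew_sq (a b : D) : H.skew a b * H.skew a b = relMat D ℤ p a b := by
  by_cases h : orderOf ((a : G) * b) = p
  · rw [show relMat D ℤ p a b = 1 by simp [relMat, h]]
    rcases H.or_cases h with h' | h'
    · rw [H.skew_of_or h', one_mul]
    · rw [H.skew_neg b a, H.skew_of_or h']; norm_num
  · rw [H.skew_zero h]; simp [relMat, h]

theorem skew_xy : H.skew ⟨x, H.hx⟩ ⟨y, H.hy⟩ = 1 :=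
  H.skew_of_or ⟨1, one_mem _, by simp, by simp⟩

theorem eval_or {M : Matrix D D ℤ} (hM : H.Inv M) {a b : D} (h : H.Or a b) :
    M a b = M ⟨x, H.hx⟩ ⟨y, H.hy⟩ := by
  obtain ⟨n, hn, h1, h2⟩ := h
  rw [← hM n hn ⟨x, H.hx⟩ ⟨y, H.hy⟩]
  congr 1 <;> exact Subtype.ext (by first | exact h1.symm | exact h2.symm)

theorem eval_diag {M : Matrix D D ℤ} (hM : H.Inv M) (a : D) :
    M a a = M ⟨x, H.hx⟩ ⟨x, H.hx⟩ := by
  obtain ⟨n, hn, h1⟩ := H.trans_core a
  rw [← hM n hn ⟨x, H.hx⟩ ⟨x, H.hx⟩,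
    show H.cp n ⟨x, H.hx⟩ = a from Subtype.ext h1]

theorem eval_symm {M : Matrix D D ℤ} (hM : H.Inv M) (hs : ∀ a b, M b a = M a b) {a b : D}
    (h : orderOf ((a : G) * b) = p) : M a b = M ⟨x, H.hx⟩ ⟨y, H.hy⟩ := by
  rcases H.or_cases h with h' | h'
  · exact H.eval_or hM h'
  · rw [hs b a]; exact H.eval_or hM h'

theorem eval_skew {M : Matrix D D ℤ} (hM : H.Inv M) (hs : ∀ a b, M b a = -M a b) (a b : D) :
    M a b = M ⟨x, H.hx⟩ ⟨y, H.hy⟩ * H.skew a b + M ⟨x, H.hx⟩ ⟨z, H.hz⟩ * H.swap.skew a b := by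
  have key : ∀ {p q : ℕ} {y z : G} (K : Iso D p q x y z), K.Inv M → ∀ a b : D,
      orderOf ((a : G) * b) = p → M a b = M ⟨x, K.hx⟩ ⟨y, K.hy⟩ * K.skew a b := by
    intro p q y z K hK a b h
    rcases K.or_cases h with h' | h'
    · rw [K.skew_of_or h', mul_one, K.eval_or hK h']
    · rw [hs b a, K.skew_neg b a, K.skew_of_or h', K.eval_or hK h']; ring
  rcases H.rel_cases a b with h | h | h
  · subst h
    rw [H.skew_zero (H.not_rel_self a), H.swap.skew_zero (H.swap.not_rel_self a)]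
    have := hs a a
    simp; omega
  · rw [H.swap.skew_zero (by rw [h]; exact H.hpq), mul_zero, add_zero]
    exact key H hM a b h
  · rw [H.skew_zero (by rw [h]; exact H.hpq.symm), mul_zero, zero_add]
    exact key H.swap hM a b h

end Iso

end CfsgLib.RankThreeInv
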