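import Cfsg.Agent.Lib.RankThreeInv.Cliques
import Cfsg.Agent.Lib.RankThreeInv.Trace

/-!
The parameters of the two relations: the crossing of the cliques makes the `p`-relation a strongly
regular graph with integral eigenvalues `Y - 1` and `-X` (owner: helper8).
-/

set_option autoImplicit false

namespace CfsgLib.RankThreeInv

open CfsgLib.Signalizer

variable {G : Type*} [Group G] {D : Set G}

/-- The members related with product of order `r`. -/
noncomputable def relMat (D : Set G) (R : Type*) [Zero R] [One R] (r : ℕ) : Matrix D D R :=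
  Matrix.of fun a b => if orderOf ((a : G) * b) = r then 1 else 0

theorem order_comm (D : Set G) {a b : G} (ha : orderOf a = 2) (hb : orderOf b = 2) :
    orderOf (b * a) = orderOf (a * b) := by
  rw [← orderOf_inv (a * b), mul_inv_rev, involution_inv ha, involution_inv hb]

/-- The parameters: clique sizes `P`, `Q`, and `X`, `Y`. -/
structure Params [Fintype D] [DecidableEq D] {p q : ℕ} {x y z : G} (H : Iso D p q x y z)
    (α β X Y : ℕ) : Prop where
  oddα : Odd α
  oddβ : Odd β
  oddX : Odd X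
  oddY : Odd Y
  hv : (Fintype.card D : ℤ) = (p : ℤ) ^ α * (q : ℤ) ^ β
  row : ∀ a, ∑ b, relMat D ℤ p a b = (X : ℤ) * ((p : ℤ) ^ α - 1)
  row' : ∀ a, ∑ b, relMat D ℤ q a b = (Y : ℤ) * ((q : ℤ) ^ β - 1)
  eq : ((X : ℤ) • (1 : Matrix D D ℤ) + relMat D ℤ p) * ((Y : ℤ) • (1 : Matrix D D ℤ) + relMat D ℤ q)
    = ((X : ℤ) * Y) • Matrix.of (fun _ _ => (1 : ℤ))

namespace Iso

variable [Finite G] {p q : ℕ} {x y z : G} (H : Iso D p q x y z)
include H

theorem rel_cases (a b : D) :
    a = b ∨ orderOf ((a : G) * b) = p ∨ orderOf ((a : G) * b) = q := by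
  by_cases h : a = b
  · exact Or.inl h
  · exact Or.inr (H.ord a a.2 b b.2 fun e => h (Subtype.ext e))

omit [Finite G] in
theorem not_rel_self (a : D) : orderOf ((a : G) * a) ≠ p := by
  rw [involution_sq (H.inv a a.2), orderOf_one]; exact H.hp.ne_one.symm

theorem one_add_add [Fintype D] [DecidableEq D] {R : Type*} [Ring R] :
    (1 : Matrix D D R) + relMat D R p + relMat D R q = Matrix.of fun _ _ => 1 := by
  ext a b
  simp only [Matrix.add_apply, relMat, Matrix.of_apply]
  rcases H.rel_cases a b with h | h | h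
  · subst h
    simp [H.not_rel_self a, H.swap.not_rel_self a]
  · have hne : a ≠ b := fun e => H.not_rel_self a (e ▸ h)
    simp [Matrix.one_apply_ne hne, h, H.hpq]
  · have hne : a ≠ b := fun e => H.swap.not_rel_self a (e ▸ h)
    simp [Matrix.one_apply_ne hne, h, H.hpq.symm]

theorem rel_symm (r : ℕ) (a b : D) : orderOf ((a : G) * b) = r ↔ orderOf ((b : G) * a) = r := by
  rw [order_comm D (H.inv a a.2) (H.inv b b.2)]

theorem exists_params [Fintype D] [DecidableEq D] : ∃ α β X Y : ℕ, Params H α β X Y := by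
  classical
  cases nonempty_fintype G
  obtain ⟨TP', hTP, hTPc⟩ := H.exists_clique
  obtain ⟨TQ', hTQ, hTQc⟩ := H.swap.exists_clique
  have hcard := H.card_eq
  rw [Nat.card_eq_fintype_card] at hTP hTQ hcard
  set α := (Fintype.card D).factorization p with hα
  set β := (Fintype.card D).factorization q with hβ
  set TP := TP'.toFinset with hTPd
  set TQ := TQ'.toFinset with hTQd
  rw [Set.ncard_eq_toFinset_card'] at hTP hTQ
  have hcP : ∀ a ∈ TP, ∀ b ∈ TP, a ≠ b → orderOf ((a : G) * b) = p := fun a ha b hb =>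
    hTPc a (Set.mem_toFinset.mp ha) b (Set.mem_toFinset.mp hb)
  have hcQ : ∀ a ∈ TQ, ∀ b ∈ TQ, a ≠ b → orderOf ((a : G) * b) = q := fun a ha b hb =>
    hTQc a (Set.mem_toFinset.mp ha) b (Set.mem_toFinset.mp hb)
  let U : Matrix G D ℕ := Matrix.of fun g a => if H.cp g a ∈ TP then 1 else 0
  let W : Matrix G D ℕ := Matrix.of fun g a => if H.cp g a ∈ TQ then 1 else 0
  -- each member is moved to each member equally often
  set e := Fintype.card G / Fintype.card D with he
  have horb : ∀ a b : D, (Finset.univ.filter fun g => H.cp g a = b).card * Fintype.card D =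
      Fintype.card G := by
    intro a b
    have hc : ∀ c : D, (Finset.univ.filter fun g => H.cp g a = c).card =
        (Finset.univ.filter fun g => H.cp g a = b).card := by
      intro c
      obtain ⟨k, hk⟩ := H.trans b b.2 c c.2
      refine (Finset.card_bij (fun g _ => k * g) ?_ (fun _ _ _ _ h => mul_left_cancel h) ?_).symm
      · intro g hg
        simp only [Finset.mem_filter, Finset.mem_univ, true_and] at hg ⊢
        subst hg
        exact Subtype.ext (by rw [← hk]; simp [cp, mul_assoc])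
      · intro g hg
        simp only [Finset.mem_filter, Finset.mem_univ, true_and] at hg ⊢
        subst hg
        refine ⟨k⁻¹ * g, Subtype.ext ?_, mul_inv_cancel_left k g⟩
        show k⁻¹ * g * a * (k⁻¹ * g)⁻¹ = b
        rw [show k⁻¹ * g * a * (k⁻¹ * g)⁻¹ = k⁻¹ * (g * a * g⁻¹) * k by group,
          show g * a * g⁻¹ = k * b * k⁻¹ from hk.symm]
        group
    conv_rhs => rw [← Finset.card_univ, Finset.card_eq_sum_card_fiberwise
      (f := fun g => H.cp g a) (t := Finset.univ) fun _ _ => Finset.mem_univ _]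
    rw [Finset.sum_congr rfl (fun c _ => hc c), Finset.sum_const, Finset.card_univ, smul_eq_mul,
      mul_comm]
  have hDpos : 0 < Fintype.card D := Fintype.card_pos_iff.mpr ⟨⟨x, H.hx⟩⟩
  have horb' : ∀ a b : D, (Finset.univ.filter fun g => H.cp g a = b).card = e := fun a b => by
    rw [he, ← horb a b, Nat.mul_div_cancel _ hDpos]
  have hG : Fintype.card G = e * Fintype.card D := by
    rw [← horb' ⟨x, H.hx⟩ ⟨x, H.hx⟩, horb]
  have hepos : 0 < e := by
    rcases Nat.eq_zero_or_pos e with h | h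
    · rw [h, zero_mul] at hG; exact absurd hG Fintype.card_ne_zero
    · exact h
  have hcol : ∀ (T : Finset D) (a : D),
      ∑ g : G, (if H.cp g a ∈ T then 1 else 0 : ℕ) = e * T.card := by
    intro T a
    rw [Finset.sum_boole, Nat.cast_id, Finset.card_eq_sum_card_fiberwise
      (s := Finset.univ.filter fun g => H.cp g a ∈ T) (f := fun g => H.cp g a) (t := T)
      (fun g hg => (Finset.mem_filter.mp hg).2), Finset.sum_congr rfl (g := fun _ => e) (fun c hc => ?_),
      Finset.sum_const, smul_eq_mul, mul_comm]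
    rw [← horb' a c]
    congr 1
    ext g
    simp only [Finset.mem_filter, Finset.mem_univ, true_and]
    exact ⟨fun h => h.2, fun h => ⟨h ▸ hc, h⟩⟩
  -- two cliques meet at most once
  have hle : ∀ g g', (U * W.transpose) g g' ≤ 1 := by
    intro g g'
    simp only [U, W, Matrix.mul_apply, Matrix.transpose_apply, Matrix.of_apply, mul_ite, mul_one,
      mul_zero, ← ite_and, Finset.sum_boole, Nat.cast_id]
    rw [Finset.card_le_one]
    intro a ha b hb
    simp only [Finset.mem_filter, Finset.mem_univ, true_and] at ha hb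
    by_contra hne
    have hne1 : H.cp g a ≠ H.cp g b := (H.cp g).injective.ne hne
    have hne2 : H.cp g' a ≠ H.cp g' b := (H.cp g').injective.ne hne
    have h1 := hcP _ ha.2 _ hb.2 hne1
    have h2 := hcQ _ ha.1 _ hb.1 hne2
    rw [H.order_cp] at h1 h2
    exact H.hpq (h1.symm.trans h2)
  have htot : ∑ g, ∑ g', (U * W.transpose) g g' = e * TP.card * (e * TQ.card) * Fintype.card D := by
    simp only [U, W, Matrix.mul_apply, Matrix.transpose_apply, Matrix.of_apply]
    calc ∑ g : G, ∑ g' : G, ∑ a : D,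
          ((if H.cp g a ∈ TP then 1 else 0) * (if H.cp g' a ∈ TQ then 1 else 0) : ℕ)
        = ∑ g : G, ∑ a : D, (if H.cp g a ∈ TP then 1 else 0) *
            ∑ g' : G, (if H.cp g' a ∈ TQ then 1 else 0 : ℕ) := by
          simp_rw [Finset.mul_sum]
          exact Finset.sum_congr rfl fun g _ => Finset.sum_comm
      _ = ∑ a : D, ∑ g : G, (if H.cp g a ∈ TP then 1 else 0) * (e * TQ.card) := by
          simp_rw [hcol]; exact Finset.sum_comm
      _ = e * TP.card * (e * TQ.card) * Fintype.card D := by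
          simp_rw [← Finset.sum_mul, hcol]
          rw [Finset.sum_const, Finset.card_univ, smul_eq_mul, ← mul_assoc]
          ring
  have hsum_le : ∑ g : G, ∑ g' : G, (U * W.transpose) g g' ≤ ∑ _g : G, ∑ _g' : G, 1 :=
    Finset.sum_le_sum fun g _ => Finset.sum_le_sum fun g' _ => hle g g'
  have hprod : TP.card * TQ.card ≤ Fintype.card D := by
    have h := htot ▸ hsum_le
    simp only [Finset.sum_const, Finset.card_univ, smul_eq_mul, mul_one, hG] at h
    refine Nat.le_of_mul_le_mul_left ?_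
      (Nat.mul_pos (Nat.mul_pos hepos hepos) hDpos)
    calc e * e * Fintype.card D * (TP.card * TQ.card)
        = e * TP.card * (e * TQ.card) * Fintype.card D := by ring
      _ ≤ _ := h
      _ = e * e * Fintype.card D * Fintype.card D := by ring
  have hTPe : TP.card = p ^ α ∧ TQ.card = q ^ β := by
    have h1 : p ^ α * q ^ β ≤ TP.card * TQ.card := Nat.mul_le_mul hTP hTQ
    have hp0 := pow_pos H.hp.pos α
    have hq0 := pow_pos H.hq.pos β
    constructor
    · refine le_antisymm (Nat.le_of_mul_le_mul_right ?_ hq0) hTP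
      calc TP.card * q ^ β ≤ TP.card * TQ.card := Nat.mul_le_mul_left _ hTQ
        _ ≤ p ^ α * q ^ β := hcard ▸ hprod
    · refine le_antisymm (Nat.le_of_mul_le_mul_left ?_ hp0) hTQ
      calc p ^ α * TQ.card ≤ TP.card * TQ.card := Nat.mul_le_mul_right _ hTP
        _ ≤ p ^ α * q ^ β := hcard ▸ hprod
  have hone : U * W.transpose = Matrix.of fun _ _ => 1 := by
    have heq : ∑ g : G, ∑ g' : G, (U * W.transpose) g g' = ∑ _g : G, ∑ _g' : G, 1 := by
      rw [htot, hTPe.1, hTPe.2]
      simp only [Finset.sum_const, Finset.card_univ, smul_eq_mul, mul_one, hG]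
      rw [hcard]; ring
    ext g g'
    have h1 := (Finset.sum_eq_sum_iff_of_le
      (fun g _ => Finset.sum_le_sum fun g' _ => hle g g')).mp heq g (Finset.mem_univ _)
    exact (Finset.sum_eq_sum_iff_of_le (fun g' _ => hle g g')).mp h1 g' (Finset.mem_univ _)
  -- the two incidence products
  have hinv : ∀ (T : Finset D) (h : G) (a b : D),
      (∑ g : G, (if H.cp g (H.cp h a) ∈ T then 1 else 0 : ℕ) * (if H.cp g (H.cp h b) ∈ T then 1 else 0)) =
        ∑ g : G, (if H.cp g a ∈ T then 1 else 0) * (if H.cp g b ∈ T then 1 else 0) := by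
    intro T h a b
    refine Fintype.sum_equiv (Equiv.mulRight h) _ _ fun g => ?_
    simp only [Equiv.coe_mulRight]
    rw [show H.cp g (H.cp h a) = H.cp (g * h) a from Subtype.ext (by simp [cp, mul_assoc]),
      show H.cp g (H.cp h b) = H.cp (g * h) b from Subtype.ext (by simp [cp, mul_assoc])]
    rfl
  have hform : ∀ (T : Finset D) (r s : ℕ) (a₀ b₀ : D), r ≠ s →
      (∀ a b : D, a = b ∨ orderOf ((a : G) * b) = r ∨ orderOf ((a : G) * b) = s) →
      (∀ a ∈ T, ∀ b ∈ T, a ≠ b → orderOf ((a : G) * b) = r) →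
      orderOf ((a₀ : G) * b₀) = r → s ≠ 1 → r ≠ 1 →
      (∀ a b a' b' : D, orderOf ((a : G) * b) = r → orderOf ((a' : G) * b') = r →
        ∃ g : G, H.cp g a = a' ∧ H.cp g b = b') →
      ∃ c : ℕ, (Matrix.of fun g a => (if H.cp g a ∈ T then 1 else 0 : ℕ)).transpose *
          (Matrix.of fun g a => (if H.cp g a ∈ T then 1 else 0 : ℕ)) =
        (e * T.card) • (1 : Matrix D D ℕ) + c • relMat D ℕ r := by
    intro T r s a₀ b₀ hrs hcases hT hr hs1 hr1 htr
    refine ⟨∑ g : G, (if H.cp g a₀ ∈ T then 1 else 0) * (if H.cp g b₀ ∈ T then 1 else 0), ?_⟩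
    ext a b
    simp only [Matrix.mul_apply, Matrix.transpose_apply, Matrix.of_apply, Matrix.add_apply,
      Matrix.smul_apply, relMat, smul_eq_mul]
    rcases hcases a b with h | h | h
    · subst h
      rw [Matrix.one_apply_eq, if_neg (by rw [involution_sq (H.inv a a.2), orderOf_one]; exact hr1.symm),
        mul_zero, add_zero, mul_one, ← hcol T a]
      exact Finset.sum_congr rfl fun g _ => by split_ifs <;> rfl
    · obtain ⟨g, hga, hgb⟩ := htr a₀ b₀ a b hr h
      have hne : a ≠ b := fun e => by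
        subst e; rw [involution_sq (H.inv a a.2), orderOf_one] at h; exact hr1 h.symm
      rw [Matrix.one_apply_ne hne, if_pos h, mul_zero, zero_add, mul_one, ← hga, ← hgb, hinv]
    · have hne : a ≠ b := fun e => by
        subst e; rw [involution_sq (H.inv a a.2), orderOf_one] at h; exact hs1 h.symm
      rw [Matrix.one_apply_ne hne, if_neg (by rw [h]; exact hrs.symm), mul_zero, mul_zero, add_zero]
      refine Finset.sum_eq_zero fun g _ => ?_
      by_cases h1 : H.cp g a ∈ T
      · by_cases h2 : H.cp g b ∈ T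
        · have h3 := hT _ h1 _ h2 ((H.cp g).injective.ne hne)
          rw [H.order_cp, h] at h3
          exact absurd h3.symm hrs
        · rw [if_neg h2, mul_zero]
      · rw [if_neg h1, zero_mul]
  obtain ⟨c₁, hc₁⟩ := hform TP p q ⟨x, H.hx⟩ ⟨y, H.hy⟩ H.hpq H.rel_cases hcP H.hxy H.hq.ne_one
    H.hp.ne_one fun a b a' b' h h' => by
      obtain ⟨g, h1, h2⟩ := H.trP a a.2 b b.2 a' a'.2 b' b'.2 h h'
      exact ⟨g, Subtype.ext h1, Subtype.ext h2⟩
  obtain ⟨d₁, hd₁⟩ := hform TQ q p ⟨x, H.hx⟩ ⟨z, H.hz⟩ H.hpq.symm H.swap.rel_cases hcQ H.hxz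
    H.hp.ne_one H.hq.ne_one fun a b a' b' h h' => by
      obtain ⟨g, h1, h2⟩ := H.trQ a a.2 b b.2 a' a'.2 b' b'.2 h h'
      exact ⟨g, Subtype.ext h1, Subtype.ext h2⟩
  change U.transpose * U = _ at hc₁
  change W.transpose * W = _ at hd₁
  rw [hTPe.1] at hc₁
  rw [hTQd] at hd₁ hTPe
  rw [hTPe.2] at hd₁
  rw [← hTQd] at hTPe
  -- row sums
  have hrow : ∀ (T : Finset D) (a : D) (g : G), ∑ b : D, (if H.cp g b ∈ T then 1 else 0 : ℕ) = T.card := by
    intro T a g
    rw [Finset.sum_boole, Nat.cast_id]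
    refine Finset.card_bij (fun b _ => H.cp g b) (fun b hb => (Finset.mem_filter.mp hb).2)
      (fun _ _ _ _ h => (H.cp g).injective h) fun c hc => ?_
    exact ⟨(H.cp g).symm c, by simpa using hc, (H.cp g).apply_symm_apply c⟩
  let kp : D → ℕ := fun a => ∑ b, relMat D ℕ p a b
  let kq : D → ℕ := fun a => ∑ b, relMat D ℕ q a b
  have hk1 : ∀ a, e * p ^ α + c₁ * kp a = e * p ^ α * p ^ α := by
    intro a
    have h := congrArg (fun M : Matrix D D ℕ => ∑ b, M a b) hc₁
    simp only [Matrix.add_apply, Matrix.smul_apply, smul_eq_mul, Finset.sum_add_distrib,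
      ← Finset.mul_sum, Matrix.one_apply, Finset.sum_ite_eq, Finset.mem_univ, if_true, mul_one] at h
    rw [← h]
    simp only [U, Matrix.mul_apply, Matrix.transpose_apply, Matrix.of_apply]
    rw [Finset.sum_comm]
    simp_rw [← Finset.mul_sum, hrow TP a, hTPe.1, ← Finset.sum_mul, hcol, hTPe.1]
  have hk2 : ∀ a, e * q ^ β + d₁ * kq a = e * q ^ β * q ^ β := by
    intro a
    have h := congrArg (fun M : Matrix D D ℕ => ∑ b, M a b) hd₁
    simp only [Matrix.add_apply, Matrix.smul_apply, smul_eq_mul, Finset.sum_add_distrib,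
      ← Finset.mul_sum, Matrix.one_apply, Finset.sum_ite_eq, Finset.mem_univ, if_true, mul_one] at h
    rw [← h]
    simp only [W, Matrix.mul_apply, Matrix.transpose_apply, Matrix.of_apply]
    rw [Finset.sum_comm]
    simp_rw [← Finset.mul_sum, hrow TQ a, hTPe.2, ← Finset.sum_mul, hcol, hTPe.2]
  have hprodeq : ((e * p ^ α) • (1 : Matrix D D ℕ) + c₁ • relMat D ℕ p) *
      ((e * q ^ β) • (1 : Matrix D D ℕ) + d₁ • relMat D ℕ q) =
      (e * e * (p ^ α * q ^ β)) • Matrix.of fun _ _ => 1 := by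
    rw [← hc₁, ← hd₁, Matrix.mul_assoc, ← Matrix.mul_assoc U, hone]
    ext a b
    simp only [U, W, Matrix.mul_apply, Matrix.transpose_apply, Matrix.of_apply, Matrix.smul_apply,
      smul_eq_mul, mul_one, one_mul]
    simp_rw [hcol, hTPe.2]
    rw [← Finset.sum_mul, hcol, hTPe.1]
    ring
  set x₀ : D := ⟨x, H.hx⟩ with hx₀
  set y₀ : D := ⟨y, H.hy⟩ with hy₀
  set z₀ : D := ⟨z, H.hz⟩ with hz₀
  have hkp : 0 < kp x₀ :=
    lt_of_lt_of_le (by simp [relMat, H.hxy, hx₀, hy₀])
      (Finset.single_le_sum (f := fun b => relMat D ℕ p x₀ b) (fun b _ => Nat.zero_le _) (Finset.mem_univ y₀))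
  have hkq : 0 < kq x₀ :=
    lt_of_lt_of_le (by simp [relMat, H.hxz, hx₀, hz₀])
      (Finset.single_le_sum (f := fun b => relMat D ℕ q x₀ b) (fun b _ => Nat.zero_le _) (Finset.mem_univ z₀))
  have hc0 : 0 < c₁ := by
    rcases Nat.eq_zero_or_pos c₁ with h | h
    · exfalso
      have h2 := congrArg (fun M : Matrix D D ℕ => M x₀ y₀) hprodeq
      have hne : x₀ ≠ y₀ := fun e' => H.not_rel_self x₀ (by
        have := H.hxy; rw [show y = (x₀ : G) by rw [e']] at this; exact this)
      have hnq : orderOf ((x₀ : G) * y₀) ≠ q := by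
        show orderOf (x * y) ≠ q; rw [H.hxy]; exact H.hpq
      simp only [h, zero_smul, add_zero, Matrix.smul_mul, Matrix.one_mul, Matrix.add_apply,
        Matrix.smul_apply, relMat, Matrix.of_apply, Matrix.one_apply_ne hne, if_neg hnq,
        smul_eq_mul, mul_zero, add_zero, mul_one] at h2
      exact (Nat.mul_pos (Nat.mul_pos hepos hepos)
        (Nat.mul_pos (pow_pos H.hp.pos α) (pow_pos H.hq.pos β))).ne h2
    · exact h
  have hd0 : 0 < d₁ := by
    rcases Nat.eq_zero_or_pos d₁ with h | h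
    · exfalso
      have h2 := congrArg (fun M : Matrix D D ℕ => M x₀ z₀) hprodeq
      have hne : x₀ ≠ z₀ := fun e' => H.swap.not_rel_self x₀ (by
        have := H.hxz; rw [show z = (x₀ : G) by rw [e']] at this; exact this)
      have hnp : orderOf ((x₀ : G) * z₀) ≠ p := by
        show orderOf (x * z) ≠ p; rw [H.hxz]; exact H.hpq.symm
      simp only [h, zero_smul, add_zero, Matrix.mul_smul, Matrix.mul_one, Matrix.add_apply,
        Matrix.smul_apply, relMat, Matrix.of_apply, Matrix.one_apply_ne hne, if_neg hnp,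
        smul_eq_mul, mul_zero, add_zero, mul_one] at h2
      exact (Nat.mul_pos (Nat.mul_pos hepos hepos)
        (Nat.mul_pos (pow_pos H.hp.pos α) (pow_pos H.hq.pos β))).ne h2
    · exact h
  -- over the rationals
  set xr : ℚ := (e : ℚ) * p ^ α / c₁ with hxr
  set yr : ℚ := (e : ℚ) * q ^ β / d₁ with hyr
  have hcQ' : (c₁ : ℚ) ≠ 0 := by exact_mod_cast hc0.ne'
  have hdQ' : (d₁ : ℚ) ≠ 0 := by exact_mod_cast hd0.ne'
  have hP0 : (1 : ℚ) < (p : ℚ) ^ α := by
    have h1 : 1 < p ^ α := by
      rcases Nat.eq_or_lt_of_le (Nat.one_le_pow α p H.hp.pos) with h | h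
      · exfalso
        have := hk1 x₀
        rw [← h, mul_one, mul_one] at this
        rcases Nat.mul_eq_zero.mp (show c₁ * kp x₀ = 0 by omega) with h' | h' <;> omega
      · exact h
    exact_mod_cast h1
  have hQ0 : (1 : ℚ) < (q : ℚ) ^ β := by
    have h1 : 1 < q ^ β := by
      rcases Nat.eq_or_lt_of_le (Nat.one_le_pow β q H.hq.pos) with h | h
      · exfalso
        have := hk2 x₀
        rw [← h, mul_one, mul_one] at this
        rcases Nat.mul_eq_zero.mp (show d₁ * kq x₀ = 0 by omega) with h' | h' <;> omega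
      · exact h
    exact_mod_cast h1
  have hkpq : ∀ a, (kp a : ℚ) = xr * ((p : ℚ) ^ α - 1) := by
    intro a
    have := congrArg (fun n : ℕ => (n : ℚ)) (hk1 a)
    push_cast at this
    rw [hxr]; field_simp; linarith
  have hkqq : ∀ a, (kq a : ℚ) = yr * ((q : ℚ) ^ β - 1) := by
    intro a
    have := congrArg (fun n : ℕ => (n : ℚ)) (hk2 a)
    push_cast at this
    rw [hyr]; field_simp; linarith
  have hentry : ∀ a b, ((xr • (1 : Matrix D D ℚ) + relMat D ℚ p) *
      (yr • (1 : Matrix D D ℚ) + relMat D ℚ q)) a b = xr * yr := by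
    intro a b
    have h2 := congrArg (fun M : Matrix D D ℕ => ((M a b : ℕ) : ℚ)) hprodeq
    simp only [Matrix.mul_apply, Matrix.add_apply, Matrix.smul_apply, Matrix.of_apply, relMat,
      smul_eq_mul, Matrix.one_apply, Nat.cast_sum, Nat.cast_mul, Nat.cast_add, Nat.cast_ite,
      Nat.cast_one, Nat.cast_zero, mul_one, Nat.cast_pow] at h2
    simp only [Matrix.mul_apply, Matrix.add_apply, Matrix.smul_apply, Matrix.of_apply, relMat,
      smul_eq_mul, Matrix.one_apply]
    have hs : ∀ j, ((c₁ : ℚ) * d₁) * ((xr * (if a = j then 1 else 0) +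
        (if orderOf ((a : G) * j) = p then 1 else 0)) * (yr * (if j = b then 1 else 0) +
        (if orderOf ((j : G) * b) = q then 1 else 0))) =
        ((e : ℚ) * p ^ α * (if a = j then 1 else 0) + c₁ * (if orderOf ((a : G) * j) = p then 1 else 0)) *
        ((e : ℚ) * q ^ β * (if j = b then 1 else 0) + d₁ * (if orderOf ((j : G) * b) = q then 1 else 0)) := by
      intro j; rw [hxr, hyr]; field_simp
    refine mul_left_cancel₀ (mul_ne_zero hcQ' hdQ') ?_
    rw [Finset.mul_sum, Finset.sum_congr rfl (fun j _ => hs j), h2, hxr, hyr]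
    field_simp
  -- integrality
  have hmat : (xr • (1 : Matrix D D ℚ) + relMat D ℚ p) * (yr • (1 : Matrix D D ℚ) + relMat D ℚ q) =
      (xr * yr) • allOne := by
    ext a b; rw [hentry]; simp [allOne]
  have hB : relMat D ℚ q = allOne - 1 - relMat D ℚ p :=
    eq_sub_of_add_eq (by
      rw [add_comm]
      exact eq_sub_of_add_eq' (by rw [← add_assoc]; exact H.one_add_add))
  have hAJ : relMat D ℚ p * allOne = (xr * ((p : ℚ) ^ α - 1)) • allOne := mul_allOne fun a => by
    rw [← hkpq a]; simp [kp, relMat, Nat.cast_sum]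
  have hAA : relMat D ℚ p * relMat D ℚ p = (xr * (yr - 1)) • (1 : Matrix D D ℚ) +
      (yr - xr - 1) • relMat D ℚ p + (xr * ((p : ℚ) ^ α - yr)) • allOne := by
    have h := hmat
    rw [hB] at h
    simp only [add_mul, mul_add, mul_sub, Matrix.smul_mul, Matrix.mul_smul, Matrix.one_mul,
      Matrix.mul_one, hAJ, smul_smul, smul_sub] at h
    rw [← sub_eq_zero] at h ⊢
    rw [← neg_eq_zero, ← h]
    match_scalars <;> ring
  have hlamy : ∀ a b : D, ∃ n : ℕ, (relMat D ℚ p * relMat D ℚ p) a b = n := fun a b =>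
    ⟨(relMat D ℕ p * relMat D ℕ p) a b, by simp [relMat, Matrix.mul_apply]⟩
  have hnq : orderOf ((x₀ : G) * z₀) ≠ p := by
    show orderOf (x * z) ≠ p; rw [H.hxz]; exact H.hpq.symm
  obtain ⟨n0, hn0⟩ := hlamy x₀ x₀
  obtain ⟨n1, hn1⟩ := hlamy x₀ y₀
  obtain ⟨n2, hn2⟩ := hlamy x₀ z₀
  have hne1 : x₀ ≠ y₀ := fun e' => H.not_rel_self x₀ (by
    have := H.hxy; rw [show y = (x₀ : G) by rw [e']] at this; exact this)
  have hne2 : x₀ ≠ z₀ := fun e' => H.swap.not_rel_self x₀ (by
    have := H.hxz; rw [show z = (x₀ : G) by rw [e']] at this; exact this)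
  have hxyp : orderOf ((x₀ : G) * y₀) = p := H.hxy
  rw [hAA] at hn0 hn1 hn2
  simp only [Matrix.add_apply, Matrix.smul_apply, smul_eq_mul, relMat, allOne, Matrix.of_apply,
    Matrix.one_apply_eq, if_neg (H.not_rel_self x₀), mul_one, mul_zero, add_zero] at hn0
  simp only [Matrix.add_apply, Matrix.smul_apply, smul_eq_mul, relMat, allOne, Matrix.of_apply,
    Matrix.one_apply_ne hne1, if_pos hxyp, mul_one, mul_zero, zero_add] at hn1
  simp only [Matrix.add_apply, Matrix.smul_apply, smul_eq_mul, relMat, allOne, Matrix.of_apply,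
    Matrix.one_apply_ne hne2, if_neg hnq, mul_one, mul_zero, zero_add] at hn2
  have hxint : ∀ r : ℚ, r * r - ((n2 : ℚ) - n1) * r - ((n0 : ℚ) - n2) = 0 → ∃ i : ℤ, r = i := by
    intro r hr
    have : IsIntegral ℤ r := ⟨Polynomial.X ^ 2 - Polynomial.C ((n2 : ℤ) - n1) * Polynomial.X -
      Polynomial.C ((n0 : ℤ) - n2), by monicity!, by
        simp; linear_combination hr⟩
    obtain ⟨i, hi⟩ := IsIntegrallyClosed.isIntegral_iff.mp this
    exact ⟨i, by simpa using hi.symm⟩
  obtain ⟨Xi, hXi⟩ := hxint xr (by linear_combination hn0 + (xr - 1) * hn2 - xr * hn1)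
  obtain ⟨Yi, hYi'⟩ := hxint (1 - yr) (by linear_combination hn0 - yr * hn2 - (1 - yr) * hn1)
  set Yz := 1 - Yi with hYz
  have hYi : yr = (Yz : ℚ) := by rw [hYz]; push_cast; rw [← hYi']; ring
  have hxpos : 0 < xr := by
    rw [hxr]; exact div_pos (mul_pos (by exact_mod_cast hepos) (by linarith)) (by exact_mod_cast hc0)
  have hypos : 0 < yr := by
    rw [hyr]; exact div_pos (mul_pos (by exact_mod_cast hepos) (by linarith)) (by exact_mod_cast hd0)
  have hXpos : 0 < Xi := by rw [hXi] at hxpos; exact_mod_cast hxpos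
  have hYpos : 0 < Yz := by rw [hYi] at hypos; exact_mod_cast hypos
  obtain ⟨X, rfl⟩ := Int.eq_ofNat_of_zero_le hXpos.le
  obtain ⟨Y, hY⟩ := Int.eq_ofNat_of_zero_le hYpos.le
  rw [hY] at hYi
  push_cast at hXi hYi
  -- parities
  have hG2 : ¬ 4 ∣ Fintype.card G := by
    intro h4
    have hN : Odd (Nat.card (Cfsg.oddCore G)) := H.toSetup.odd_card_le le_rfl
    have hidx : (Cfsg.oddCore G).index ≤ 2 := by
      rw [Subgroup.index, Nat.card_eq_fintype_card]
      refine le_trans (Fintype.card_le_of_surjective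
        (fun b : Bool => ((if b then x else 1 : G) : G ⧸ Cfsg.oddCore G)) ?_) (by simp)
      intro qg
      induction qg using QuotientGroup.induction_on with
      | H g =>
        rcases H.mem_or g with h | h
        · exact ⟨false, (QuotientGroup.eq.mpr (by simpa using h))⟩
        · refine ⟨true, QuotientGroup.eq.mpr ?_⟩
          simpa [involution_inv (H.inv x H.hx)] using h
    have hmul := (Cfsg.oddCore G).card_mul_index
    rw [Nat.card_eq_fintype_card (α := G)] at hmul
    have hidx0 : (Cfsg.oddCore G).index ≠ 0 := Subgroup.index_ne_zero_of_finite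
    rw [Nat.odd_iff] at hN
    obtain ⟨t, ht⟩ := h4
    interval_cases h : (Cfsg.oddCore G).index <;> omega
  have hdvd : ∀ r : ℕ, ∀ a₀ b₀ : D, orderOf ((a₀ : G) * b₀) = r →
      (∀ a b a' b' : D, orderOf ((a : G) * b) = r → orderOf ((a' : G) * b') = r →
        ∃ g : G, H.cp g a = a' ∧ H.cp g b = b') →
      (∑ b, relMat D ℕ r a₀ b) ∣ Fintype.card G := by
    intro r a₀ b₀ h₀ htr
    let N0 := Finset.univ.filter fun b : D => orderOf ((a₀ : G) * b) = r
    let S0 := Finset.univ.filter fun g : G => H.cp g a₀ = a₀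
    have hsum : ∑ b, relMat D ℕ r a₀ b = N0.card := by simp [relMat, N0, Finset.sum_boole]
    have hS : S0.card = (S0.filter fun g => H.cp g b₀ = b₀).card * N0.card := by
      rw [Finset.card_eq_sum_card_fiberwise (f := fun g => H.cp g b₀) (t := N0) ?_,
        Finset.sum_congr rfl (g := fun _ => (S0.filter fun g => H.cp g b₀ = b₀).card) ?_,
        Finset.sum_const, smul_eq_mul, mul_comm]
      · intro c hc
        simp only [N0, Finset.mem_filter, Finset.mem_univ, true_and] at hc
        obtain ⟨k, hka, hkb⟩ := htr a₀ b₀ a₀ c h₀ hc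
        refine (Finset.card_bij (fun g _ => k * g) ?_ (fun _ _ _ _ h => mul_left_cancel h) ?_).symm
        · intro g hg
          simp only [S0, Finset.mem_filter, Finset.mem_univ, true_and] at hg ⊢
          constructor <;> refine Subtype.ext ?_
          · show k * g * (a₀ : G) * (k * g)⁻¹ = a₀
            have h1 : g * (a₀ : G) * g⁻¹ = a₀ := congrArg Subtype.val hg.1
            rw [show k * g * (a₀ : G) * (k * g)⁻¹ = k * (g * a₀ * g⁻¹) * k⁻¹ by group, h1]
            exact congrArg Subtype.val hka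
          · show k * g * (b₀ : G) * (k * g)⁻¹ = c
            have h1 : g * (b₀ : G) * g⁻¹ = b₀ := congrArg Subtype.val hg.2
            rw [show k * g * (b₀ : G) * (k * g)⁻¹ = k * (g * b₀ * g⁻¹) * k⁻¹ by group, h1]
            exact congrArg Subtype.val hkb
        · intro g hg
          simp only [S0, Finset.mem_filter, Finset.mem_univ, true_and] at hg ⊢
          refine ⟨k⁻¹ * g, ?_, mul_inv_cancel_left k g⟩
          constructor <;> refine Subtype.ext ?_
          · show k⁻¹ * g * (a₀ : G) * (k⁻¹ * g)⁻¹ = a₀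
            have h1 : g * (a₀ : G) * g⁻¹ = a₀ := congrArg Subtype.val hg.1
            rw [show k⁻¹ * g * (a₀ : G) * (k⁻¹ * g)⁻¹ = k⁻¹ * (g * a₀ * g⁻¹) * k by group, h1,
              show (a₀ : G) = k * a₀ * k⁻¹ from (congrArg Subtype.val hka).symm]
            group
            rw [show k * (a₀ : G) * k ^ (-1 : ℤ) = a₀ from by rw [zpow_neg_one]; exact congrArg Subtype.val hka]
          · show k⁻¹ * g * (b₀ : G) * (k⁻¹ * g)⁻¹ = b₀
            have h1 : g * (b₀ : G) * g⁻¹ = c := congrArg Subtype.val hg.2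
            have h2 : k * (b₀ : G) * k⁻¹ = c := congrArg Subtype.val hkb
            rw [show k⁻¹ * g * (b₀ : G) * (k⁻¹ * g)⁻¹ = k⁻¹ * (g * b₀ * g⁻¹) * k by group, h1, ← h2]
            group
      · intro g hg
        simp only [S0, Finset.mem_coe, Finset.mem_filter, Finset.mem_univ, true_and] at hg
        simp only [N0, Finset.mem_coe, Finset.mem_filter, Finset.mem_univ, true_and]
        rw [← h₀, ← H.order_cp g a₀ b₀, hg]
    rw [hsum, ← horb a₀ a₀]
    exact Dvd.dvd.mul_right ⟨_, hS.trans (mul_comm _ _)⟩ _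
  have hpar : ∀ (Z k r i : ℕ), r.Prime → r ≠ 2 → k = Z * (r ^ i - 1) → k ∣ Fintype.card G →
      Odd Z ∧ Odd i := by
    intro Z k r i hr hr2 hk hd
    have hr' : r % 2 = 1 := Nat.odd_iff.mp (hr.odd_of_ne_two hr2)
    have h2 : 2 ∣ r ^ i - 1 := by
      have := Nat.odd_iff.mp ((hr.odd_of_ne_two hr2).pow (n := i)); omega
    have hdd : ¬ 4 ∣ k := fun h => hG2 (h.trans hd)
    constructor
    · rw [Nat.odd_iff]
      by_contra hZ
      have : 2 * 2 ∣ k := hk ▸ Nat.mul_dvd_mul (Nat.dvd_of_mod_eq_zero (by omega)) h2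
      exact hdd this
    · rw [← Nat.not_even_iff_odd]
      rintro ⟨j, rfl⟩
      refine hdd (hk ▸ Dvd.dvd.mul_left ?_ _)
      have hodd : (r ^ j) % 2 = 1 := Nat.odd_iff.mp ((hr.odd_of_ne_two hr2).pow)
      obtain ⟨t, ht⟩ : ∃ t, r ^ j = 2 * t + 1 := ⟨r ^ j / 2, by omega⟩
      rw [pow_add, ht, show (2 * t + 1) * (2 * t + 1) = 4 * (t * (t + 1)) + 1 by ring]
      simp
  have hkp' : ∀ a, kp a = X * (p ^ α - 1) := fun a => by
    have h1 : 1 ≤ p ^ α := Nat.one_le_pow _ _ H.hp.pos
    have := hkpq a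
    rw [hXi] at this
    have h2 : ((kp a : ℕ) : ℚ) = ((X * (p ^ α - 1) : ℕ) : ℚ) := by
      push_cast [Nat.cast_sub h1]; linear_combination this
    exact_mod_cast h2
  have hkq' : ∀ a, kq a = Y * (q ^ β - 1) := fun a => by
    have h1 : 1 ≤ q ^ β := Nat.one_le_pow _ _ H.hq.pos
    have := hkqq a
    rw [hYi] at this
    have h2 : ((kq a : ℕ) : ℚ) = ((Y * (q ^ β - 1) : ℕ) : ℚ) := by
      push_cast [Nat.cast_sub h1]; linear_combination this
    exact_mod_cast h2
  have hp2 : p ≠ 2 := by have := H.three_le; omega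
  have hq2 : q ≠ 2 := by have := H.swap.three_le; omega
  obtain ⟨hX, hαo⟩ := hpar X (kp x₀) p α H.hp hp2 (hkp' x₀) (hdvd p x₀ y₀ H.hxy fun a b a' b' h h' => by
    obtain ⟨g, h1, h2⟩ := H.trP a a.2 b b.2 a' a'.2 b' b'.2 h h'
    exact ⟨g, Subtype.ext h1, Subtype.ext h2⟩)
  obtain ⟨hY', hβo⟩ := hpar Y (kq x₀) q β H.hq hq2 (hkq' x₀) (hdvd q x₀ z₀ H.hxz fun a b a' b' h h' => by
    obtain ⟨g, h1, h2⟩ := H.trQ a a.2 b b.2 a' a'.2 b' b'.2 h h'
    exact ⟨g, Subtype.ext h1, Subtype.ext h2⟩)
  refine ⟨α, β, X, Y, hαo, hβo, hX, hY', by exact_mod_cast hcard, fun a => ?_, fun a => ?_, ?_⟩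
  · have h1 : 1 ≤ p ^ α := Nat.one_le_pow _ _ H.hp.pos
    calc ∑ b, relMat D ℤ p a b = ((kp a : ℕ) : ℤ) := by simp [kp, relMat, Nat.cast_sum]
      _ = _ := by rw [hkp']; push_cast [Nat.cast_sub h1]; ring
  · have h1 : 1 ≤ q ^ β := Nat.one_le_pow _ _ H.hq.pos
    calc ∑ b, relMat D ℤ q a b = ((kq a : ℕ) : ℤ) := by simp [kq, relMat, Nat.cast_sum]
      _ = _ := by rw [hkq']; push_cast [Nat.cast_sub h1]; ring
  · ext a b
    have h := hentry a b
    rw [hXi, hYi] at h
    simp only [Matrix.smul_apply, Matrix.of_apply, smul_eq_mul, mul_one]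
    have hc : ((((X : ℤ) • (1 : Matrix D D ℤ) + relMat D ℤ p) *
        ((Y : ℤ) • (1 : Matrix D D ℤ) + relMat D ℤ q)) a b : ℚ) = (((X : ℤ) * Y : ℤ) : ℚ) := by
      push_cast
      rw [← h]
      simp only [Matrix.mul_apply, Matrix.add_apply, Matrix.smul_apply, Matrix.one_apply, relMat,
        Matrix.of_apply, smul_eq_mul]
      push_cast
      rfl
    exact_mod_cast hc

end Iso

end CfsgLib.RankThreeInv
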