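import Cfsg.Agent.Lib.RankThreeInv.Orientation

/-!
The skew matrices force one of the eigenvalues to be `1`, and then the relation is a system of
blocks centralized by the involutions (owner: helper8).
-/

set_option autoImplicit false

namespace CfsgLib.RankThreeInv

open CfsgLib.Signalizer

variable {G : Type*} [Group G] [Finite G] {D : Set G} [Fintype D] [DecidableEq D] {p q : ℕ}
  {x y z : G}

namespace Iso

variable (H : Iso D p q x y z)
include H

/-- First entry of `A S`. -/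
noncomputable def c₁ : ℤ := (relMat D ℤ p * H.skew) ⟨x, H.hx⟩ ⟨y, H.hy⟩

/-- Second entry of `A S`. -/
noncomputable def c₂ : ℤ := (relMat D ℤ p * H.skew) ⟨x, H.hx⟩ ⟨z, H.hz⟩

theorem skew_colsum (b : D) : ∑ w, H.skew w b = 0 := by
  have h := congrArg (fun M : Matrix D D ℤ => M b b) (H.inv_allOnes.comm H.inv_skew)
  simp only [Matrix.mul_apply, Matrix.of_apply, one_mul, mul_one] at h
  have e : ∑ w, H.skew b w = -∑ w, H.skew w b := by
    rw [← Finset.sum_neg_distrib]
    exact Finset.sum_congr rfl fun w _ => H.skew_neg w b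
  omega

theorem mul_skew_neg (r : ℕ) (a b : D) :
    (relMat D ℤ r * H.skew) b a = -(relMat D ℤ r * H.skew) a b := by
  have h := congrArg (fun M : Matrix D D ℤ => M b a) ((H.inv_rel r).comm H.inv_skew)
  rw [h]
  simp only [Matrix.mul_apply, ← Finset.sum_neg_distrib]
  refine Finset.sum_congr rfl fun w _ => ?_
  rw [H.skew_neg w b, show relMat D ℤ r w a = relMat D ℤ r a w by
    simp only [relMat, Matrix.of_apply, H.rel_symm r w a]]
  ring

theorem mul_skew_eq : relMat D ℤ p * H.skew = H.c₁ • H.skew + H.c₂ • H.swap.skew := by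
  ext a b
  simp only [Matrix.add_apply, Matrix.smul_apply, smul_eq_mul]
  exact H.eval_skew ((H.inv_rel p).mul H.inv_skew) (fun a b => H.mul_skew_neg p a b) a b

theorem mul_swap_skew_eq : relMat D ℤ p * H.swap.skew =
    (-H.swap.c₂) • H.skew + (-1 - H.swap.c₁) • H.swap.skew := by
  have hA : relMat D ℤ p = (Matrix.of fun _ _ => (1 : ℤ)) - 1 - relMat D ℤ q :=
    eq_sub_of_add_eq (eq_sub_of_add_eq' (by rw [← add_assoc]; exact H.one_add_add))
  have hJ : (Matrix.of fun _ _ => (1 : ℤ)) * H.swap.skew = 0 := by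
    ext a b; simp [Matrix.mul_apply, H.swap.skew_colsum]
  rw [hA, sub_mul, sub_mul, hJ, Matrix.one_mul, H.swap.mul_skew_eq]
  match_scalars <;> ring

theorem skew_xy_right : H.swap.skew ⟨x, H.hx⟩ ⟨y, H.hy⟩ = 0 :=
  H.swap.skew_zero (by show orderOf (x * y) ≠ q; rw [H.hxy]; exact H.hpq)

theorem skew_xz : H.skew ⟨x, H.hx⟩ ⟨z, H.hz⟩ = 0 :=
  H.skew_zero (by show orderOf (x * z) ≠ p; rw [H.hxz]; exact H.hpq.symm)

theorem skew_xz_right : H.swap.skew ⟨x, H.hx⟩ ⟨z, H.hz⟩ = 1 := H.swap.skew_xy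

end Iso

namespace Params

variable {H : Iso D p q x y z} {α β X Y : ℕ} (hP : Params H α β X Y)
include hP

theorem quadratic :
    H.c₁ * H.c₁ - H.c₂ * H.swap.c₂ = (X : ℤ) * ((Y : ℤ) - 1) + ((Y : ℤ) - X - 1) * H.c₁ ∧
      H.c₂ * (H.c₁ - 1 - H.swap.c₁) = ((Y : ℤ) - X - 1) * H.c₂ := by
  set S := H.skew with hS
  set T := H.swap.skew with hT
  have hJ : (Matrix.of fun _ _ => (1 : ℤ)) * S = 0 := by
    ext a b; simp [Matrix.mul_apply, hS, H.skew_colsum]
  have h : relMat D ℤ p * (relMat D ℤ p * S) = (relMat D ℤ p * relMat D ℤ p) * S :=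
    (Matrix.mul_assoc _ _ _).symm
  rw [hP.mul_self] at h
  simp only [Matrix.add_mul, Matrix.smul_mul, Matrix.one_mul, hJ, smul_zero, add_zero] at h
  rw [hS, H.mul_skew_eq, Matrix.mul_add, Matrix.mul_smul, Matrix.mul_smul, H.mul_skew_eq,
    H.mul_swap_skew_eq] at h
  refine ⟨?_, ?_⟩
  · have e := congrArg (fun M : Matrix D D ℤ => M ⟨x, H.hx⟩ ⟨y, H.hy⟩) h
    simp only [Matrix.add_apply, Matrix.smul_apply, smul_eq_mul, H.skew_xy, H.skew_xy_right] at e
    linear_combination e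
  · have e := congrArg (fun M : Matrix D D ℤ => M ⟨x, H.hx⟩ ⟨z, H.hz⟩) h
    simp only [Matrix.add_apply, Matrix.smul_apply, smul_eq_mul, H.skew_xz, H.skew_xz_right] at e
    linear_combination e

theorem cross : -H.swap.c₂ * ((X : ℤ) * ((p : ℤ) ^ α - 1)) =
    H.c₂ * ((Y : ℤ) * ((q : ℤ) ^ β - 1)) := by
  have hAT := (H.inv_rel p).comm H.swap.inv_skew
  have hST : H.skew * H.swap.skew = H.swap.skew * H.skew := H.inv_skew.comm H.swap.inv_skew
  have h : H.skew * (relMat D ℤ p * H.swap.skew) = H.swap.skew * (relMat D ℤ p * H.skew) := by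
    rw [hAT, (H.inv_rel p).comm H.inv_skew, ← Matrix.mul_assoc, ← Matrix.mul_assoc, hST]
  rw [H.mul_skew_eq, H.mul_swap_skew_eq, Matrix.mul_add, Matrix.mul_add, Matrix.mul_smul,
    Matrix.mul_smul, Matrix.mul_smul, Matrix.mul_smul] at h
  have e := congrArg (fun M : Matrix D D ℤ => M ⟨x, H.hx⟩ ⟨x, H.hx⟩) h
  simp only [Matrix.mul_add, Matrix.mul_smul, Matrix.add_apply, Matrix.smul_apply, smul_eq_mul,
    Matrix.mul_apply] at e
  have e1 : ∀ w, H.skew ⟨x, H.hx⟩ w * H.skew w ⟨x, H.hx⟩ = -relMat D ℤ p ⟨x, H.hx⟩ w := fun w => by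
    rw [H.skew_neg ⟨x, H.hx⟩ w, mul_neg, H.skew_sq]
  have e2 : ∀ w, H.swap.skew ⟨x, H.hx⟩ w * H.swap.skew w ⟨x, H.hx⟩ =
      -relMat D ℤ q ⟨x, H.hx⟩ w := fun w => by
    rw [H.swap.skew_neg ⟨x, H.hx⟩ w, mul_neg, H.swap.skew_sq]
  have e4 : ∑ w, H.skew ⟨x, H.hx⟩ w * H.swap.skew w ⟨x, H.hx⟩ = 0 :=
    Finset.sum_eq_zero fun w _ => by
      by_cases hw : orderOf ((⟨x, H.hx⟩ : D) * (w : G)) = p
      · rw [H.swap.skew_zero (a := w) (b := ⟨x, H.hx⟩)
          (by rw [(H.rel_symm p ⟨x, H.hx⟩ w).mp hw]; exact H.hpq), mul_zero]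
      · rw [H.skew_zero hw, zero_mul]
  have e5 : ∑ w, H.swap.skew ⟨x, H.hx⟩ w * H.skew w ⟨x, H.hx⟩ = 0 := by
    rw [← e4]
    refine Finset.sum_congr rfl fun w _ => ?_
    rw [H.skew_neg ⟨x, H.hx⟩ w, H.swap.skew_neg ⟨x, H.hx⟩ w]; ring
  rw [Finset.sum_congr rfl (fun w _ => e1 w), e4, Finset.sum_congr rfl (fun w _ => e2 w), e5,
    Finset.sum_neg_distrib, Finset.sum_neg_distrib, hP.row, hP.row'] at e
  linear_combination -e

theorem weighted : ∃ γ : ℤ,
    (X : ℤ) * ((p : ℤ) ^ α - 1) * (1 + H.c₁) = (Y : ℤ) * ((q : ℤ) ^ β - 1) * γ := by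
  set x₀ : D := ⟨x, H.hx⟩ with hx₀
  set y₀ : D := ⟨y, H.hy⟩ with hy₀
  set z₀ : D := ⟨z, H.hz⟩ with hz₀
  set M := H.skew * H.skew with hM
  have hMi : H.Inv M := H.inv_skew.mul H.inv_skew
  have hMs : ∀ a b, M b a = M a b := fun a b => by
    simp only [hM, Matrix.mul_apply]
    refine Finset.sum_congr rfl fun w _ => ?_
    rw [H.skew_neg w b, H.skew_neg a w]; ring
  have hdiag : M x₀ x₀ = -((X : ℤ) * ((p : ℤ) ^ α - 1)) := by
    rw [← hP.row x₀, ← Finset.sum_neg_distrib, hM, Matrix.mul_apply]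
    refine Finset.sum_congr rfl fun w _ => ?_
    rw [H.skew_neg x₀ w, mul_neg, H.skew_sq]
  have hp' : ∀ w : D, orderOf ((x₀ : G) * w) = p → M x₀ w = M x₀ y₀ := fun w h => H.eval_symm hMi hMs h
  have hq' : ∀ w : D, orderOf ((x₀ : G) * w) = q → M x₀ w = M x₀ z₀ := fun w h =>
    H.swap.eval_symm hMi hMs h
  have hsplit : ∀ f : D → ℤ, ∑ w, f w = f x₀ + ∑ w, relMat D ℤ p x₀ w * f w +
      ∑ w, relMat D ℤ q x₀ w * f w := by
    intro f
    have h := congrArg (fun N : Matrix D D ℤ => ∑ w, N x₀ w * f w) (H.one_add_add (R := ℤ))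
    simp only [Matrix.add_apply, Matrix.of_apply, one_mul, add_mul, Finset.sum_add_distrib,
      Matrix.one_apply, ite_mul, zero_mul, Finset.sum_ite_eq, Finset.mem_univ, if_true] at h
    exact h.symm
  have hrel : ∀ (r : ℕ) (c : ℤ) (f : D → ℤ), (∀ w : D, orderOf ((x₀ : G) * w) = r → f w = c) →
      ∑ w, relMat D ℤ r x₀ w * f w = c * ∑ w, relMat D ℤ r x₀ w := by
    intro r c f hf
    rw [Finset.mul_sum]
    refine Finset.sum_congr rfl fun w _ => ?_
    by_cases hw : orderOf ((x₀ : G) * w) = r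
    · simp [relMat, hw, hf w hw]
    · simp [relMat, hw]
  have hrowM : ∑ w, M x₀ w = 0 := by
    simp only [hM, Matrix.mul_apply]
    rw [Finset.sum_comm]
    refine Finset.sum_eq_zero fun a _ => ?_
    rw [← Finset.mul_sum, show ∑ w, H.skew a w = -∑ w, H.skew w a by
      rw [← Finset.sum_neg_distrib]; exact Finset.sum_congr rfl fun w _ => H.skew_neg w a,
      H.skew_colsum, neg_zero, mul_zero]
  rw [hsplit, hrel p _ _ hp', hrel q _ _ hq', hP.row, hP.row', hdiag] at hrowM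
  have hsa : (M * relMat D ℤ p) x₀ x₀ = M x₀ y₀ * ((X : ℤ) * ((p : ℤ) ^ α - 1)) := by
    rw [← hP.row x₀, Matrix.mul_apply, ← hrel p _ _ hp']
    refine Finset.sum_congr rfl fun w _ => ?_
    rw [show relMat D ℤ p w x₀ = relMat D ℤ p x₀ w by
      simp only [relMat, Matrix.of_apply, H.rel_symm p w x₀], mul_comm]
  have hsb : (M * relMat D ℤ p) x₀ x₀ = -H.c₁ * ((X : ℤ) * ((p : ℤ) ^ α - 1)) := by
    rw [hM, Matrix.mul_assoc, ← (H.inv_rel p).comm H.inv_skew, H.mul_skew_eq, Matrix.mul_add,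
      Matrix.mul_smul, Matrix.mul_smul, ← hP.row x₀]
    simp only [Matrix.add_apply, Matrix.smul_apply, smul_eq_mul]
    have e4 : (H.skew * H.swap.skew) x₀ x₀ = 0 := by
      rw [Matrix.mul_apply]
      refine Finset.sum_eq_zero fun w _ => ?_
      by_cases hw : orderOf ((x₀ : G) * (w : G)) = p
      · rw [H.swap.skew_zero (a := w) (b := x₀)
          (by rw [(H.rel_symm p x₀ w).mp hw]; exact H.hpq), mul_zero]
      · rw [H.skew_zero hw, zero_mul]
    rw [e4, mul_zero, add_zero, neg_mul, ← mul_neg, ← Finset.sum_neg_distrib, Matrix.mul_apply]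
    congr 1
    refine Finset.sum_congr rfl fun w _ => ?_
    rw [H.skew_neg x₀ w, mul_neg, H.skew_sq]
  exact ⟨M x₀ z₀, by linear_combination hsb - hsa - hrowM⟩

theorem odd_c₁ : Odd H.c₁ := by
  set x₀ : D := ⟨x, H.hx⟩ with hx₀
  set y₀ : D := ⟨y, H.hy⟩ with hy₀
  have h2 : ((H.c₁ : ℤ) : ZMod 2) = (((relMat D ℤ p * relMat D ℤ p) x₀ y₀ : ℤ) : ZMod 2) := by
    rw [Iso.c₁, Matrix.mul_apply, Matrix.mul_apply, Int.cast_sum, Int.cast_sum]
    refine Finset.sum_congr rfl fun w _ => ?_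
    push_cast
    congr 1
    have key : ∀ u : ZMod 2, u = u * u := by decide
    rw [← H.skew_sq, Int.cast_mul]
    exact key _
  have hne : x₀ ≠ y₀ := H.ne_of_rel H.hp.ne_one H.hxy
  have hxy : orderOf ((x₀ : G) * y₀) = p := H.hxy
  rw [hP.mul_self] at h2
  simp only [Matrix.add_apply, Matrix.smul_apply, Matrix.one_apply_ne hne, relMat, Matrix.of_apply,
    if_pos hxy, smul_eq_mul, mul_one, mul_zero, zero_add] at h2
  have hodd : Odd ((Y : ℤ) - X - 1 + (X : ℤ) * ((p : ℤ) ^ α - Y)) := by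
    have hp3 := H.three_le
    obtain ⟨a, ha⟩ : Odd ((p : ℤ) ^ α) :=
      ((H.hp.odd_of_ne_two (by omega)).natCast (R := ℤ)).pow
    obtain ⟨b, hb⟩ := hP.oddY.natCast (R := ℤ)
    obtain ⟨c, hc⟩ := hP.oddX.natCast (R := ℤ)
    exact ⟨b - c - 1 + (X : ℤ) * (a - b), by rw [ha, hb, hc]; ring⟩
  have h3 := (ZMod.intCast_eq_intCast_iff' _ _ 2).mp h2
  rw [Int.odd_iff] at hodd ⊢
  omega

/-- If `c₂` vanishes then `c₁` is the negative eigenvalue. -/
theorem pure (h : H.c₂ = 0) : H.c₁ = -(X : ℤ) ∧ H.swap.c₂ = 0 := by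
  have h2 : H.swap.c₂ = 0 := by
    have e := hP.cross
    rw [h, zero_mul] at e
    rcases mul_eq_zero.mp e with e' | e'
    · exact neg_eq_zero.mp e'
    · exfalso
      have h1 : (1 : ℤ) < (p : ℤ) ^ α := by exact_mod_cast hP.one_lt_pow
      rcases mul_eq_zero.mp e' with e'' | e''
      · exact hP.oddX.pos.ne' (by exact_mod_cast e'')
      · omega
  refine ⟨?_, h2⟩
  have e : (H.c₁ + X) * (H.c₁ - ((Y : ℤ) - 1)) = 0 := by
    have := hP.quadratic.1
    rw [h] at this
    linear_combination this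
  rcases mul_eq_zero.mp e with e' | e'
  · omega
  · exfalso
    obtain ⟨b, hb⟩ := hP.odd_c₁
    obtain ⟨c, hc⟩ := hP.oddY
    omega

theorem one_or_one : X = 1 ∨ Y = 1 := by
  have hP1 : (p : ℤ) ^ α ≠ 1 := by exact_mod_cast hP.one_lt_pow.ne'
  have hQ1 : (q : ℤ) ^ β ≠ 1 := by exact_mod_cast hP.swap.one_lt_pow.ne'
  have hXp := hP.oddX.pos
  have hYp := hP.oddY.pos
  obtain ⟨γ, hγ⟩ := hP.weighted
  obtain ⟨γ', hγ'⟩ := hP.swap.weighted
  have hN := hP.dvd_mul
  have hc2 : H.c₂ = 0 := by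
    by_contra hne
    have hj : H.swap.c₁ + (Y : ℤ) = H.c₁ + X := by
      have := mul_left_cancel₀ hne (hP.quadratic.2.trans (mul_comm _ _))
      omega
    have hd := Arith.dvd_defect hP.hvI hP1 hQ1 hγ hγ' hj hN
    have e := hP.quadratic.1
    have hneg : H.c₂ * H.swap.c₂ < 0 := by
      have h1 : (0 : ℤ) < (X : ℤ) * ((p : ℤ) ^ α - 1) := by
        have : (1 : ℤ) < (p : ℤ) ^ α := by exact_mod_cast hP.one_lt_pow
        exact mul_pos (by exact_mod_cast hXp) (by omega)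
      have h2 : (0 : ℤ) < (Y : ℤ) * ((q : ℤ) ^ β - 1) := by
        have : (1 : ℤ) < (q : ℤ) ^ β := by exact_mod_cast hP.swap.one_lt_pow
        exact mul_pos (by exact_mod_cast hYp) (by omega)
      have h3 : -(H.c₂ * H.swap.c₂) * ((X : ℤ) * ((p : ℤ) ^ α - 1)) =
          H.c₂ * H.c₂ * ((Y : ℤ) * ((q : ℤ) ^ β - 1)) := by
        linear_combination H.c₂ * hP.cross
      have h4 : 0 < H.c₂ * H.c₂ := mul_self_pos.mpr hne
      nlinarith [mul_pos h4 h2]
    have hlt : (H.c₁ + X) * (H.c₁ + X - ((X : ℤ) + Y - 1)) < 0 := by linarith [show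
      (H.c₁ + X) * (H.c₁ + X - ((X : ℤ) + Y - 1)) = H.c₂ * H.swap.c₂ by linear_combination e]
    rcases mul_neg_iff.mp hlt with ⟨h1, h2⟩ | ⟨h1, h2⟩
    · have := Int.le_of_dvd h1 hd
      omega
    · omega
  obtain ⟨hc1, hc2'⟩ := hP.pure hc2
  obtain ⟨hd1, -⟩ := hP.swap.pure hc2'
  rw [hc1] at hγ
  rw [hd1] at hγ'
  have hy := Arith.dvd_pure hP.hvI hQ1 hγ
  have hx := Arith.dvd_pure (Arith.swap_hv hP.hvI) hP1 hγ'
  have hp3 := H.three_le
  have hq3 := H.swap.three_le
  rcases Arith.classify H.hp H.hq hp3 hq3 hP.oddα hP.oddβ hXp hYp hP.hvI hN hy hx with h | h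
  · exact Or.inl h.1
  · exact Or.inr h.2

/-- An eigenvalue `Y = 1` is impossible. -/
theorem false_of_one (hY : Y = 1) : False := by
  let E : D → D → Prop := fun a b => a = b ∨ orderOf ((a : G) * b) = q
  have htriangle : ∀ a b c : D, orderOf ((a : G) * b) = q → orderOf ((a : G) * c) = p →
      orderOf ((c : G) * b) ≠ q := by
    intro a b c hab hac hcb
    have hne : a ≠ b := H.ne_of_rel H.hq.ne_one hab
    have h := congrArg (fun M : Matrix D D ℤ => M a b) hP.eq
    subst hY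
    simp only [Nat.cast_one, one_smul, Matrix.add_mul, Matrix.mul_add, Matrix.smul_mul,
      Matrix.one_mul, Matrix.mul_one, Matrix.add_apply, Matrix.smul_apply, Matrix.one_apply_ne hne,
      Matrix.of_apply, smul_eq_mul, mul_zero, mul_one, zero_add] at h
    rw [show relMat D ℤ q a b = 1 by simp [relMat, hab],
      show relMat D ℤ p a b = 0 by simp [relMat, hab, H.hpq.symm]] at h
    have hpos : (1 : ℤ) ≤ (relMat D ℤ p * relMat D ℤ q) a b := by
      rw [Matrix.mul_apply]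
      refine le_trans (le_of_eq ?_) (Finset.single_le_sum (f := fun w =>
        relMat D ℤ p a w * relMat D ℤ q w b) (fun w _ => ?_) (Finset.mem_univ c))
      · simp [relMat, hac, hcb]
      · simp only [relMat, Matrix.of_apply]; split_ifs <;> norm_num
    omega
  have hE : Equivalence E := by
    refine ⟨fun a => Or.inl rfl, ?_, ?_⟩
    · intro a b h
      exact h.elim (fun e => Or.inl e.symm) fun e => Or.inr ((H.rel_symm q a b).mp e)
    · intro a b c h1 h2
      rcases h1 with rfl | h1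
      · exact h2
      rcases h2 with rfl | h2
      · exact Or.inr h1
      rcases H.rel_cases a c with e | e | e
      · exact Or.inl e
      · exact absurd ((H.rel_symm q b c).mp h2) (htriangle a b c h1 e)
      · exact Or.inr e
  have hEcp : ∀ (g : G) (a b : D), E (H.cp g a) (H.cp g b) ↔ E a b := fun g a b => by
    simp only [E, (H.cp g).injective.eq_iff, H.order_cp]
  have hnotE : ∀ a b : D, ¬ E a b → orderOf ((a : G) * b) = p := fun a b h =>
    ((H.rel_cases a b).resolve_left fun e => h (Or.inl e)).resolve_right fun e => h (Or.inr e)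
  have hblock := block_lemma (fun m a => H.f m a) E hE
    (fun m a b h => by
      show E (H.f m a) (H.f m b)
      rw [← H.cp_eq_f, ← H.cp_eq_f, hEcp]; exact h)
    (fun m a h => by
      have h1 := hnotE a m fun e => h (hE.symm e)
      rintro (e | e)
      · exact H.ne_of_rel H.hp.ne_one (H.order_f m a ▸ h1) e
      · rw [H.order_f, h1] at e; exact H.hpq e)
    (fun m a h => by
      rcases hE.symm h with e | e
      · subst e
        exact Or.inl (Subtype.ext (by
          show (a : G) = a * a * a; rw [involution_sq (H.inv a a.2), one_mul]))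
      · exact Or.inr (by rw [H.order_f]; exact e))
    (fun m m' a _ _ h => (H.f_inj a).1 h)
    (fun a b c d h h' => by
      obtain ⟨g, h1, h2⟩ := H.trP a a.2 b b.2 c c.2 d d.2 (hnotE a b h) (hnotE c d h')
      exact ⟨H.cp g, hEcp g, H.cp_f g, Subtype.ext h1, Subtype.ext h2⟩)
  let K : Subgroup G :=
    { carrier := {n | n ∈ Cfsg.oddCore G ∧ ∀ e : D, E e (H.cp n e)}
      one_mem' := ⟨one_mem _, fun e => Or.inl (Subtype.ext (by simp [Iso.cp]))⟩
      mul_mem' := fun {a b} ha hb => ⟨mul_mem ha.1 hb.1, fun e => by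
        rw [H.cp_mul]; exact hE.trans (hb.2 e) (ha.2 _)⟩
      inv_mem' := fun {a} ha => ⟨inv_mem ha.1, fun e => by
        have h := ha.2 (H.cp a⁻¹ e)
        rw [← H.cp_mul, mul_inv_cancel, show H.cp 1 e = e from Subtype.ext (by simp [Iso.cp])] at h
        exact hE.symm h⟩ }
  have hK : K.Normal := ⟨fun n hn g => ⟨(Cfsg.pPrimeCore_normal 2 G).conj_mem n hn.1 g, fun e => by
    have h := (hEcp g _ _).mpr (hn.2 (H.cp g⁻¹ e))
    rwa [← H.cp_mul, mul_inv_cancel, show H.cp 1 e = e from Subtype.ext (by simp [Iso.cp]),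
      ← H.cp_mul, ← H.cp_mul] at h⟩⟩
  have hmem : x * z ∈ K := ⟨H.core x H.hx z H.hz, fun e => by
    rw [H.cp_mul, H.cp_eq_f ⟨z, H.hz⟩ e, H.cp_eq_f ⟨x, H.hx⟩]
    have h := (hEcp x _ _).mpr (hblock ⟨x, H.hx⟩ ⟨z, H.hz⟩ e (Or.inr H.hxz))
    rw [H.cp_eq_f ⟨x, H.hx⟩, H.cp_eq_f ⟨x, H.hx⟩, H.f_f] at h
    exact h⟩
  have hcomm := H.toSetup.centralizes hK (fun n hn => hn.1) H.hx H.hq (fun k hk => by
    rcases hk.2 ⟨x, H.hx⟩ with e | e
    · refine ⟨0, ?_⟩
      have e' : x = k * x * k⁻¹ := congrArg Subtype.val e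
      rw [← e', involution_sq (H.inv x H.hx), orderOf_one, pow_zero]
    · exact ⟨1, by rw [pow_one]; exact e⟩) _ hmem
  have hxz : Commute x z := by
    have h := hcomm.eq
    rw [mul_mul_self (H.inv x H.hx)] at h
    show x * z = z * x
    calc x * z = x * z * x * x := by rw [mul_assoc, involution_sq (H.inv x H.hx), mul_one]
      _ = z * x := by rw [← h]
  have h2 := orderOf_dvd_of_pow_eq_one ((commute_iff_sq (H.inv x H.hx) (H.inv z H.hz)).mp hxz)
  rw [H.hxz] at h2
  have := Nat.le_of_dvd two_pos h2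
  have := H.swap.three_le
  omega

end Params

namespace Iso

omit [Fintype D] [DecidableEq D] in
/-- The case without commuting members is impossible. -/
theorem contradiction (H : Iso D p q x y z) : False := by
  classical
  cases nonempty_fintype D
  obtain ⟨α, β, X, Y, hP⟩ := H.exists_params
  rcases hP.one_or_one with h | h
  · exact hP.swap.false_of_one h
  · exact hP.false_of_one h

end Iso

end CfsgLib.RankThreeInv
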