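import Cfsg.Agent.Lib.RankThreeInv.Basic
import Cfsg.Agent.Lib.RankThreeInv.Mat
import Cfsg.Agent.Lib.RankThreeInv.Trace

/-!
A rank 3 class of involutions with commuting members and odd noncommuting products: some member
moves by two commuting members to commuting members (owner: helper8).
-/

set_option autoImplicit false

namespace CfsgLib.RankThreeInv

open CfsgLib.Signalizer

/-- The hypotheses of the commuting case. -/
structure Graph {G : Type*} [Group G] (D : Set G) (n : ℕ) : Prop extends Setup D where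
  odd : Odd n
  not3 : ¬ 3 ∣ n
  ord : ∀ a ∈ D, ∀ b ∈ D, ¬ Commute a b → orderOf (a * b) = n
  tr1 : ∀ a ∈ D, ∀ b ∈ D, ∀ a' ∈ D, ∀ b' ∈ D, a ≠ b → Commute a b → a' ≠ b' → Commute a' b' →
    ∃ g : G, g * a * g⁻¹ = a' ∧ g * b * g⁻¹ = b'
  tr0 : ∀ a ∈ D, ∀ b ∈ D, ∀ a' ∈ D, ∀ b' ∈ D, ¬ Commute a b → ¬ Commute a' b' →
    ∃ g : G, g * a * g⁻¹ = a' ∧ g * b * g⁻¹ = b'
  exC : ∃ a ∈ D, ∃ b ∈ D, a ≠ b ∧ Commute a b

namespace Graph

variable {G : Type*} [Group G] [Finite G] {D : Set G} {n : ℕ} (H : Graph D n)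
include H

/-- The conjugate of `a` by `z`. -/
def f (z a : D) : D := ⟨(z : G) * a * z, H.toSetup.conj' z.2 a.2⟩

/-- Conjugation as a permutation of the class. -/
def cp (g : G) : D ≃ D where
  toFun a := ⟨g * a * g⁻¹, H.conj g a a.2⟩
  invFun a := ⟨g⁻¹ * a * g, by simpa using H.conj g⁻¹ a a.2⟩
  left_inv a := Subtype.ext (by simp only; group)
  right_inv a := Subtype.ext (by simp only; group)

theorem cp_comm (g : G) (a b : D) :
    Commute ((H.cp g a : D) : G) (H.cp g b : G) ↔ Commute (a : G) b :=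
  SemiconjBy.conj_iff

theorem cp_f (g : G) (a b : D) : H.cp g (H.f a b) = H.f (H.cp g a) (H.cp g b) :=
  Subtype.ext (by simp only [cp, f, Equiv.coe_fn_mk]; group)

theorem odd_mul {a b : D} (h : ¬ Commute (a : G) b) : Odd (orderOf ((a : G) * b)) := by
  rw [H.ord a a.2 b b.2 h]; exact H.odd

theorem move {z a : D} (h : ¬ Commute (z : G) a) : ¬ Commute (a : G) (H.f z a) := by
  intro hc
  have h' : ¬ Commute (a : G) z := fun e => h e.symm
  have ho := orderOf_mul_conj (H.odd_mul h')
  have h2 : ((a : G) * ((z : G) * a * z)) ^ 2 = 1 :=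
    (commute_iff_sq (H.inv a a.2) (H.inv _ (H.f z a).2)).mp hc
  have hd := orderOf_dvd_of_pow_eq_one h2
  rw [ho] at hd
  rcases (Nat.dvd_prime Nat.prime_two).mp hd with e | e
  · exact ne_one_of_not_commute (H.inv z z.2) h' (orderOf_eq_one_iff.mp e)
  · have := H.odd_mul h'; rw [e] at this; exact absurd this (by decide)

theorem fix {z a : D} (h : Commute (z : G) a) : H.f z a = a :=
  Subtype.ext ((commute_iff (H.inv z z.2)).mp h)

theorem inj {z z' a : D} (h : ¬ Commute (z : G) a) (h' : ¬ Commute (z' : G) a)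
    (e : H.f z a = H.f z' a) : z = z' :=
  Subtype.ext (inj_conj (H.odd_mul fun c => h c.symm) (H.odd_mul fun c => h' c.symm)
    (congrArg Subtype.val e))

theorem f_f (z a : D) : H.f z (H.f z a) = a := by
  refine Subtype.ext ?_
  simp only [f, mul_assoc, involution_sq (H.inv z z.2), mul_one]
  exact mul_mul_self (H.inv z z.2) _

theorem exists_noncomm : ∃ a b : D, ¬ Commute (a : G) b := by
  obtain ⟨a, ha, -⟩ := H.exC
  by_contra h
  push Not at h
  exact H.toSetup.not_central ha fun e he => h ⟨a, ha⟩ ⟨e, he⟩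

/-- Commuting members, and the pair of distinct commuting members. -/
def Adj (_H : Graph D n) (a b : D) : Prop := a ≠ b ∧ Commute (a : G) b

theorem adj_cp (g : G) (a b : D) : H.Adj (H.cp g a) (H.cp g b) ↔ H.Adj a b := by
  rw [Adj, Adj, H.cp_comm, (H.cp g).injective.ne_iff]

/-- Some member is moved by two commuting members to commuting members. -/
theorem exists_good : ∃ a b x : D, a ≠ b ∧ Commute (a : G) b ∧ ¬ Commute (x : G) a ∧
    ¬ Commute (x : G) b ∧ Commute ((H.f a x : D) : G) (H.f b x : G) := by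
  classical
  by_contra H0
  push Not at H0
  cases nonempty_fintype D
  obtain ⟨a₀', ha₀, b₀', hb₀, hne₀, hc₀⟩ := H.exC
  set a₀ : D := ⟨a₀', ha₀⟩ with ha₀d
  set b₀ : D := ⟨b₀', hb₀⟩ with hb₀d
  have hadj₀ : H.Adj a₀ b₀ := ⟨fun e => hne₀ (congrArg Subtype.val e), hc₀⟩
  obtain ⟨u₀, v₀, hnc₀⟩ := H.exists_noncomm
  let N : D → Finset D := fun a => Finset.univ.filter (H.Adj a)
  set k := (N a₀).card with hk
  set lam := (N a₀ ∩ N b₀).card with hlam
  set mu := (N u₀ ∩ N v₀).card with hmu
  have hNimg : ∀ g a, N (H.cp g a) = (N a).image (H.cp g) := by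
    intro g a
    ext c
    obtain ⟨d, rfl⟩ := (H.cp g).surjective c
    simp [N, H.adj_cp]
  have hdeg : ∀ a, (N a).card = k := by
    intro a
    obtain ⟨g, hg⟩ := H.trans _ ha₀ a a.2
    rw [show a = H.cp g a₀ from Subtype.ext hg.symm, hNimg,
      Finset.card_image_of_injective _ (H.cp g).injective]
  have hlam' : ∀ a b, H.Adj a b → (N a ∩ N b).card = lam := by
    intro a b h
    obtain ⟨g, hga, hgb⟩ := H.tr1 _ ha₀ _ hb₀ a a.2 b b.2 hne₀ hc₀
      (fun e => h.1 (Subtype.ext e)) h.2
    rw [show a = H.cp g a₀ from Subtype.ext hga.symm, show b = H.cp g b₀ from Subtype.ext hgb.symm,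
      hNimg, hNimg, ← Finset.image_inter _ _ (H.cp g).injective,
      Finset.card_image_of_injective _ (H.cp g).injective]
  have hmu' : ∀ a b : D, ¬ Commute (a : G) b → (N a ∩ N b).card = mu := by
    intro a b h
    obtain ⟨g, hga, hgb⟩ := H.tr0 _ u₀.2 _ v₀.2 a a.2 b b.2 hnc₀ h
    rw [show a = H.cp g u₀ from Subtype.ext hga.symm, show b = H.cp g v₀ from Subtype.ext hgb.symm,
      hNimg, hNimg, ← Finset.image_inter _ _ (H.cp g).injective,
      Finset.card_image_of_injective _ (H.cp g).injective]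
  have hkpos : 0 < k := Finset.card_pos.mpr ⟨b₀, by simp [N, hadj₀]⟩
  have hmule : mu ≤ k := hdeg u₀ ▸ Finset.card_le_card Finset.inter_subset_left
  -- twins
  rcases Nat.eq_or_lt_of_le hmule with hmk | hmk
  · have twin : ∀ a b c : D, ¬ Commute (a : G) b → H.Adj a c → H.Adj b c := by
      intro a b c hab hac
      have e : N a ∩ N b = N a := Finset.eq_of_subset_of_card_le Finset.inter_subset_left
        (by rw [hdeg, hmu' a b hab, hmk])
      have : c ∈ N a ∩ N b := by rw [e]; simp [N, hac]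
      simp only [N, Finset.mem_inter, Finset.mem_filter] at this
      exact this.2.2
    let X : Set G := {e | ∃ h : e ∈ D, (⟨e, h⟩ : D) = a₀ ∨ ¬ Commute (a₀ : G) e}
    have hout : ∀ o : D, H.Adj a₀ o → ∀ e ∈ X, Commute e (o : G) := by
      rintro o ho e ⟨he, he' | he'⟩
      · rw [← he'] at ho; exact ho.2
      · exact (twin a₀ ⟨e, he⟩ o he' ho).2
    have hcases : ∀ o : D, (o : G) ∈ X ∨ H.Adj a₀ o := by
      intro o
      by_cases h1 : o = a₀
      · exact Or.inl ⟨o.2, Or.inl h1⟩
      by_cases h2 : Commute (a₀ : G) o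
      · exact Or.inr ⟨fun e => h1 e.symm, h2⟩
      · exact Or.inl ⟨o.2, Or.inr h2⟩
    have hN : (Subgroup.closure X).Normal := by
      rw [← Subgroup.normalizer_eq_top_iff, eq_top_iff, ← H.gen, Subgroup.closure_le]
      intro d hd
      suffices hX : ∀ u ∈ X, d * u * d ∈ Subgroup.closure X by
        rw [SetLike.mem_coe, Subgroup.mem_normalizer_iff]
        have key : ∀ z ∈ Subgroup.closure X, d * z * d⁻¹ ∈ Subgroup.closure X := by
          intro z hz
          induction hz using Subgroup.closure_induction with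
          | mem u hu => rw [conj_eq (H.inv d hd)]; exact hX u hu
          | one => simp
          | mul y z _ _ hy hz => rw [show d * (y * z) * d⁻¹ = d * y * d⁻¹ * (d * z * d⁻¹) by group]
                                 exact mul_mem hy hz
          | inv y _ hy => rw [show d * y⁻¹ * d⁻¹ = (d * y * d⁻¹)⁻¹ by group]; exact inv_mem hy
        intro z
        refine ⟨key z, fun hz => ?_⟩
        have h2 := key _ hz
        rw [involution_inv (H.inv d hd)] at h2
        rwa [show d * (d * z * d) * d = z by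
          rw [mul_assoc d z, mul_mul_self (H.inv d hd), mul_assoc, involution_sq (H.inv d hd),
            mul_one]] at h2
      intro u hu
      rcases hcases ⟨d, hd⟩ with hdX | hdA
      · exact mul_mem (mul_mem (Subgroup.subset_closure hdX) (Subgroup.subset_closure hu))
          (Subgroup.subset_closure hdX)
      · have := hout ⟨d, hd⟩ hdA u hu
        rw [(commute_iff (H.inv d hd)).mp this.symm]
        exact Subgroup.subset_closure hu
    have htop : Subgroup.closure X = ⊤ := by
      rw [eq_top_iff, ← H.gen, Subgroup.closure_le]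
      intro d hd
      obtain ⟨g, hg⟩ := H.trans _ ha₀ d hd
      rw [← hg]
      exact hN.conj_mem _ (Subgroup.subset_closure ⟨ha₀, Or.inl rfl⟩) g
    have hle : Subgroup.closure X ≤ Subgroup.centralizer {(b₀ : G)} := by
      rw [Subgroup.closure_le]
      exact fun e he => Subgroup.mem_centralizer_singleton_iff.mpr (hout b₀ hadj₀ e he).eq
    refine H.toSetup.not_central hb₀ fun e _ => ?_
    have : e ∈ Subgroup.centralizer {(b₀ : G)} := hle (by rw [htop]; exact Subgroup.mem_top e)
    exact (Subgroup.mem_centralizer_singleton_iff.mp this).symm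
  -- the adjacency matrix
  let A : Matrix D D ℚ := Matrix.of fun a b => if H.Adj a b then 1 else 0
  have hsymm : ∀ a b, H.Adj a b ↔ H.Adj b a := fun a b =>
    ⟨fun h => ⟨h.1.symm, h.2.symm⟩, fun h => ⟨h.1.symm, h.2.symm⟩⟩
  have hrow : ∀ a, ∑ b, A a b = k := fun a => by
    rw [← hdeg a]; simp [A, N, Finset.sum_boole]
  have hAA : A * A = ((k : ℚ) - mu) • (1 : Matrix D D ℚ) + ((lam : ℚ) - mu) • A
      + (mu : ℚ) • (allOne : Matrix D D ℚ) := by
    ext a b
    have hl : (A * A) a b = (N a ∩ N b).card := by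
      simp only [A, Matrix.mul_apply, Matrix.of_apply, ite_mul, one_mul, zero_mul, ← ite_and,
        Finset.sum_boole]
      congr 2
      ext c
      simp [N, hsymm b c]
    rw [hl]
    simp only [Matrix.add_apply, Matrix.smul_apply, smul_eq_mul, allOne, Matrix.of_apply, A]
    by_cases h1 : a = b
    · subst h1
      simp [Finset.inter_self, hdeg, Adj]
    by_cases h2 : Commute (a : G) b
    · have h : H.Adj a b := ⟨h1, h2⟩
      simp [hlam' a b h, h, Matrix.one_apply_ne h1]
    · have h : ¬ H.Adj a b := fun h => h2 h.2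
      simp [hmu' a b h2, h, Matrix.one_apply_ne h1]
  set v : ℚ := (Fintype.card D : ℚ) with hv
  have hAJ : A * (allOne : Matrix D D ℚ) = (k : ℚ) • (allOne : Matrix D D ℚ) := mul_allOne hrow
  have hJA : (allOne : Matrix D D ℚ) * A = (k : ℚ) • (allOne : Matrix D D ℚ) := allOne_mul fun b => by
    rw [← hrow b]; exact Finset.sum_congr rfl fun a _ => if_congr (hsymm a b) rfl rfl
  have hvpos : 0 < Fintype.card D := Fintype.card_pos_iff.mpr ⟨a₀⟩
  have hid : (k : ℚ) * k = ((k : ℚ) - mu) + ((lam : ℚ) - mu) * k + mu * v := by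
    have e := congrArg (fun M : Matrix D D ℚ => (M * (allOne : Matrix D D ℚ)) a₀ a₀) hAA
    simp only [add_mul, Matrix.smul_mul, Matrix.one_mul, mul_assoc, hAJ, Matrix.mul_smul,
      allOne_mul_allOne, Matrix.smul_apply, Matrix.add_apply, smul_eq_mul, smul_smul] at e
    simp only [allOne, Matrix.of_apply, mul_one] at e
    linarith
  have hcA : ∀ g i j, A (H.cp g i) (H.cp g j) = A i j := fun g i j =>
    if_congr (H.adj_cp g i j) rfl rfl
  have hcomb : ∀ (g : G) (a b c : ℚ) (i j : D),
      (a • (1 : Matrix D D ℚ) + b • A + c • (allOne : Matrix D D ℚ)) (H.cp g i) (H.cp g j) =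
        (a • (1 : Matrix D D ℚ) + b • A + c • (allOne : Matrix D D ℚ)) i j := fun g a b c i j => by
    simp only [Matrix.add_apply, Matrix.smul_apply, hcA, allOne, Matrix.of_apply, Matrix.one_apply,
      (H.cp g).injective.eq_iff]
  -- fixed members and moved-to-adjacent members
  let fixN : (D ≃ D) → ℕ := fun σ => (Finset.univ.filter fun i => σ i = i).card
  let adjN : (D ≃ D) → ℕ := fun σ => (Finset.univ.filter fun i => H.Adj i (σ.symm i)).card
  have hsum : ∀ σ : D ≃ D, (∑ i, A i (σ.symm i)) = adjN σ := fun σ => by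
    simp [A, adjN, Finset.sum_boole]
  have hfix1 : fixN (H.cp (1 : G)) = Fintype.card D ∧ adjN (H.cp (1 : G)) = 0 := by
    have e : H.cp (1 : G) = 1 := Equiv.ext fun i => Subtype.ext (by simp [cp])
    simp [fixN, adjN, e, Adj, Equiv.Perm.one_def]
  have hnofix : ∀ g : G, ∀ i, ((H.cp g).symm i : G) = g⁻¹ * i * g := fun g i => rfl
  have hcpa : ∀ (a i : D), H.cp a i = H.f a i := fun a i =>
    Subtype.ext (conj_eq (H.inv a a.2) _)
  have hcpa' : ∀ (a i : D), (H.cp a).symm i = H.f a i := fun a i =>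
    Subtype.ext (by rw [hnofix, involution_inv (H.inv a a.2)]; rfl)
  have hta : fixN (H.cp (a₀ : G)) = k + 1 ∧ adjN (H.cp (a₀ : G)) = 0 := by
    constructor
    · rw [← hdeg a₀, ← Finset.card_insert_of_notMem (a := a₀) (s := N a₀) (by simp [N, Adj])]
      refine congrArg Finset.card (Finset.ext fun i => ?_)
      simp only [Finset.mem_filter, Finset.mem_univ, true_and, Finset.mem_insert, N, hcpa]
      constructor
      · intro h
        by_cases hi : i = a₀
        · exact Or.inl hi
        · exact Or.inr ⟨fun e => hi e.symm, (commute_iff (H.inv _ a₀.2)).mpr (congrArg Subtype.val h)⟩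
      · rintro (rfl | h)
        · exact H.fix (Commute.refl _)
        · exact H.fix h.2
    · simp only [adjN, Finset.card_eq_zero, Finset.filter_eq_empty_iff, Finset.mem_univ, hcpa',
        forall_true_left]
      intro i h
      by_cases hc : Commute (a₀ : G) i
      · exact h.1 (H.fix hc).symm
      · exact H.move hc h.2
  have hprod : ∀ a b i : D, (H.cp ((a : G) * b)).symm i = H.f b (H.f a i) := fun a b i =>
    Subtype.ext (by
      rw [hnofix, mul_inv_rev, involution_inv (H.inv a a.2), involution_inv (H.inv b b.2)]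
      simp only [f, mul_assoc])
  have hprodfix : ∀ a b i : D, a ≠ b →
      (H.cp ((a : G) * b) i = i ↔ Commute (a : G) i ∧ Commute (b : G) i) := by
    intro a b i hab
    have h1 : H.cp ((a : G) * b) i = i ↔ H.f b i = H.f a i := by
      rw [show H.cp ((a : G) * b) i = H.f a (H.f b i) from Subtype.ext (by
        simp only [cp, Equiv.coe_fn_mk, f, mul_inv_rev, involution_inv (H.inv a a.2),
          involution_inv (H.inv b b.2)]; group)]
      exact ⟨fun h => by rw [← H.f_f a (H.f b i), h], fun h => by rw [h, H.f_f]⟩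
    rw [h1]
    constructor
    · intro h
      by_cases hb : Commute (b : G) i
      · rw [H.fix hb] at h
        exact ⟨(commute_iff (H.inv a a.2)).mpr (congrArg Subtype.val h.symm), hb⟩
      · by_cases ha : Commute (a : G) i
        · rw [H.fix ha] at h
          exact absurd ((commute_iff (H.inv b b.2)).mpr (congrArg Subtype.val h)) hb
        · exact absurd (H.inj hb ha h).symm hab
    · rintro ⟨ha, hb⟩
      rw [H.fix ha, H.fix hb]
  have hadjprod : ∀ a b i : D, H.Adj i (H.f b (H.f a i)) →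
      ¬ Commute (a : G) i ∧ ¬ Commute (b : G) i ∧ H.Adj (H.f b i) (H.f a i) := by
    intro a b i h
    have h' : H.Adj (H.f b i) (H.f a i) := by
      have := (H.adj_cp b i (H.f b (H.f a i))).mpr h
      rwa [hcpa, hcpa, H.f_f] at this
    refine ⟨fun ha => ?_, fun hb => ?_, h'⟩
    · rw [H.fix ha] at h'
      rcases em (Commute (b : G) i) with hb | hb
      · rw [H.fix hb] at h'; exact h'.1 rfl
      · exact H.move hb h'.2.symm
    · rw [H.fix hb] at h'
      rcases em (Commute (a : G) i) with ha | ha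
      · rw [H.fix ha] at h'; exact h'.1 rfl
      · exact H.move ha h'.2
  have htt : fixN (H.cp ((a₀ : G) * b₀)) = lam + 2 ∧ adjN (H.cp ((a₀ : G) * b₀)) = 0 := by
    constructor
    · have hd : a₀ ∉ insert b₀ (N a₀ ∩ N b₀) := by simp [N, Adj, hadj₀.1]
      rw [hlam, show ((N a₀ ∩ N b₀).card + 2) = (insert a₀ (insert b₀ (N a₀ ∩ N b₀))).card by
        rw [Finset.card_insert_of_notMem hd, Finset.card_insert_of_notMem (by simp [N, Adj])]]
      refine congrArg Finset.card (Finset.ext fun i => ?_)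
      simp only [Finset.mem_filter, Finset.mem_univ, true_and, Finset.mem_insert, Finset.mem_inter, N,
        hprodfix a₀ b₀ i hadj₀.1]
      constructor
      · rintro ⟨ha, hb⟩
        by_cases h1 : i = a₀
        · exact Or.inl h1
        by_cases h2 : i = b₀
        · exact Or.inr (Or.inl h2)
        exact Or.inr (Or.inr ⟨⟨fun e => h1 e.symm, ha⟩, fun e => h2 e.symm, hb⟩)
      · rintro (rfl | rfl | ⟨h1, h2⟩)
        · exact ⟨Commute.refl _, hc₀.symm⟩
        · exact ⟨hc₀, Commute.refl _⟩
        · exact ⟨h1.2, h2.2⟩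
    · simp only [adjN, Finset.card_eq_zero, Finset.filter_eq_empty_iff, Finset.mem_univ, hprod,
        forall_true_left]
      intro i h
      obtain ⟨h1, h2, h3⟩ := hadjprod a₀ b₀ i h
      exact H0 a₀ b₀ i hadj₀.1 hc₀ (fun e => h1 e.symm) (fun e => h2 e.symm) h3.2.symm
  have htc : fixN (H.cp ((u₀ : G) * v₀)) = mu ∧ adjN (H.cp ((u₀ : G) * v₀)) + mu = k := by
    have huv : u₀ ≠ v₀ := fun e => hnc₀ (e ▸ Commute.refl _)
    constructor
    · rw [hmu]
      refine congrArg Finset.card (Finset.ext fun i => ?_)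
      simp only [Finset.mem_filter, Finset.mem_univ, true_and, Finset.mem_inter, N,
        hprodfix u₀ v₀ i huv]
      exact ⟨fun ⟨h1, h2⟩ => ⟨⟨fun e => hnc₀ (e ▸ h2.symm), h1⟩, fun e => hnc₀ (e ▸ h1), h2⟩,
        fun ⟨h1, h2⟩ => ⟨h1.2, h2.2⟩⟩
    · let T : D → D → Finset D := fun a b => Finset.univ.filter fun i => H.Adj (H.f b i) (H.f a i)
      have hT0 : adjN (H.cp ((u₀ : G) * v₀)) = (T u₀ v₀).card := by
        refine congrArg Finset.card (Finset.ext fun i => ?_)
        simp only [Finset.mem_filter, Finset.mem_univ, true_and, T, hprod]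
        constructor
        · exact fun h => (hadjprod _ _ _ h).2.2
        · intro h
          have := (H.adj_cp v₀ (H.f v₀ i) (H.f u₀ i)).mpr h
          rwa [hcpa, hcpa, H.f_f] at this
      rw [hT0]
      let P : Finset (D × D) := Finset.univ.filter fun q => ¬ Commute (q.1 : G) q.2
      have hTc : ∀ q ∈ P, (T q.1 q.2).card = (T u₀ v₀).card := by
        rintro ⟨a, b⟩ hq
        simp only [P, Finset.mem_filter, Finset.mem_univ, true_and] at hq
        obtain ⟨g, hga, hgb⟩ := H.tr0 _ u₀.2 _ v₀.2 a a.2 b b.2 hnc₀ hq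
        rw [show a = H.cp g u₀ from Subtype.ext hga.symm, show b = H.cp g v₀ from Subtype.ext hgb.symm]
        refine (Finset.card_bij (fun c _ => H.cp g c) ?_ ?_ ?_).symm
        · intro c hc
          simpa [T, ← H.cp_f, H.adj_cp] using hc
        · intro c _ c' _ h; exact (H.cp g).injective h
        · intro c hc
          obtain ⟨d, rfl⟩ := (H.cp g).surjective c
          exact ⟨d, by simpa [T, ← H.cp_f, H.adj_cp] using hc, rfl⟩
      have hmap : (P.sigma fun q => T q.1 q.2).card =
          (P.sigma fun q => N q.2 \ N q.1).card := by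
        refine Finset.card_bij (fun q _ => ⟨(q.2, H.f q.1.2 q.2), H.f q.1.1 q.2⟩) ?_ ?_ ?_
        · rintro ⟨⟨a, b⟩, i⟩ hq
          simp only [P, T, Finset.mem_sigma, Finset.mem_filter, Finset.mem_univ, true_and] at hq
          have h' : H.Adj i (H.f b (H.f a i)) := by
            have := (H.adj_cp b (H.f b i) (H.f a i)).mpr hq.2
            rwa [hcpa, hcpa, H.f_f] at this
          obtain ⟨ha, hb, h3⟩ := hadjprod a b i h'
          simp only [P, N, Finset.mem_sigma, Finset.mem_filter, Finset.mem_univ, true_and,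
            Finset.mem_sdiff]
          exact ⟨H.move hb, h3, fun h4 => H.move ha h4.2⟩
        · rintro ⟨⟨a, b⟩, i⟩ hq ⟨⟨a', b'⟩, i'⟩ hq' h
          simp only [P, T, Finset.mem_sigma, Finset.mem_filter, Finset.mem_univ, true_and] at hq hq'
          simp only [Sigma.mk.injEq, Prod.mk.injEq, heq_eq_eq] at h
          obtain ⟨⟨rfl, h2⟩, h3⟩ := h
          have e1 := hadjprod a b i (by
            have := (H.adj_cp b (H.f b i) (H.f a i)).mpr hq.2
            rwa [hcpa, hcpa, H.f_f] at this)
          have e2 := hadjprod a' b' i (by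
            have := (H.adj_cp b' (H.f b' i) (H.f a' i)).mpr hq'.2
            rwa [hcpa, hcpa, H.f_f] at this)
          rw [H.inj e1.2.1 e2.2.1 h2, H.inj e1.1 e2.1 h3]
        · rintro ⟨⟨i, y⟩, y'⟩ hq
          simp only [P, N, Finset.mem_sigma, Finset.mem_filter, Finset.mem_univ, true_and,
            Finset.mem_sdiff] at hq
          obtain ⟨hiy, hyy, hiy'⟩ := hq
          have himg : ∀ y : D, ¬ Commute (i : G) y → ∃ z : D, ¬ Commute (z : G) i ∧ H.f z i = y := by
            intro y hy
            let S := Finset.univ.filter fun z : D => ¬ Commute (i : G) z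
            have hS : S.image (fun z => H.f z i) = S := by
              refine Finset.eq_of_subset_of_card_le ?_ (le_of_eq ?_)
              · intro c hc
                simp only [S, Finset.mem_image, Finset.mem_filter, Finset.mem_univ, true_and] at hc ⊢
                obtain ⟨z, hz, rfl⟩ := hc
                exact H.move fun h => hz h.symm
              · refine (Finset.card_image_of_injOn fun z hz z' hz' h => ?_).symm
                simp only [S, Finset.coe_filter, Finset.mem_univ, true_and, Set.mem_setOf_eq] at hz hz'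
                exact H.inj (fun h' => hz h'.symm) (fun h' => hz' h'.symm) h
            have hy' : y ∈ S.image (fun z => H.f z i) := by rw [hS]; simp [S, hy]
            simp only [S, Finset.mem_image, Finset.mem_filter, Finset.mem_univ, true_and] at hy'
            obtain ⟨z, hz, rfl⟩ := hy'
            exact ⟨z, fun h => hz h.symm, rfl⟩
          have hiy2 : ¬ Commute (i : G) y' := fun hc => by
            rcases eq_or_ne i y' with e | e
            · exact hiy (e ▸ hyy.2.symm)
            · exact hiy' ⟨e, hc⟩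
          obtain ⟨z, hz, rfl⟩ := himg y hiy
          obtain ⟨z', hz', rfl⟩ := himg y' hiy2
          refine ⟨⟨(z', z), i⟩, ?_, rfl⟩
          simp only [P, T, Finset.mem_sigma, Finset.mem_filter, Finset.mem_univ, true_and]
          refine ⟨fun hc => ?_, hyy⟩
          have hne : z' ≠ z := fun e => hyy.1 (by rw [e])
          exact H0 z' z i hne hc (fun h => hz' h.symm) (fun h => hz h.symm) hyy.2.symm
      rw [Finset.card_sigma, Finset.card_sigma, Finset.sum_congr rfl hTc, Finset.sum_const,
        Finset.sum_congr rfl (g := fun _ => k - mu) (fun q hq => ?_), Finset.sum_const] at hmap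
      · have hP : 0 < P.card := Finset.card_pos.mpr ⟨(u₀, v₀), by simp [P, hnc₀]⟩
        simp only [smul_eq_mul] at hmap
        have := Nat.eq_of_mul_eq_mul_left hP hmap
        omega
      · simp only [P, Finset.mem_filter, Finset.mem_univ, true_and] at hq
        rw [← Finset.sdiff_inter_self_right, Finset.card_sdiff_of_subset Finset.inter_subset_right,
          hdeg, hmu' _ _ hq]
  -- integrality
  set e : ℤ := (mu : ℤ) - lam with he
  set Δ : ℕ := ((lam : ℤ) - mu).natAbs ^ 2 + 4 * (k - mu) with hΔ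
  have hΔ0 : Δ ≠ 0 := by omega
  have hΔq : (Δ : ℚ) = (e : ℚ) * e + 4 * ((k : ℚ) - mu) := by
    rw [hΔ, he]; push_cast [Nat.cast_sub hmule]
    rw [show (((lam : ℤ) - mu).natAbs : ℚ) ^ 2 = ((lam : ℚ) - mu) ^ 2 by
      rw [← Nat.cast_pow, ← Int.cast_natCast, Nat.cast_pow, Int.natAbs_sq]; push_cast; ring]
    ring
  have hcpow : ∀ g : G, orderOf (H.cp g) ≠ 0 := fun g => (orderOf_pos _).ne'
  have hv0 : v ≠ 0 := by rw [hv]; exact_mod_cast hvpos.ne'
  set c : ℚ := (2 * (k : ℚ) + e) / v with hc
  have hcv : c * v = 2 * (k : ℚ) + e := by rw [hc]; field_simp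
  set F : Matrix D D ℚ := (e : ℚ) • (1 : Matrix D D ℚ) + (2 : ℚ) • A + (-c) • (allOne : Matrix D D ℚ) with hF
  have hFJ : (allOne : Matrix D D ℚ) * F = 0 := by
    rw [hF, mul_add, mul_add, Matrix.mul_smul, Matrix.mul_smul, Matrix.mul_smul, hJA, mul_one,
      allOne_mul_allOne, smul_smul, smul_smul, ← add_smul, ← add_smul, ← hv,
      show (e : ℚ) + 2 * k + -c * v = 0 by linear_combination -hcv, zero_smul]
  have hee : (e : ℚ) = (mu : ℚ) - lam := by rw [he]; push_cast; ring
  have hFF : F * F = (Δ : ℚ) • (1 : Matrix D D ℚ) + (-(Δ : ℚ) / v) • (allOne : Matrix D D ℚ) := by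
    rw [hF]
    simp only [add_mul, mul_add, Matrix.smul_mul, Matrix.mul_smul, Matrix.one_mul, Matrix.mul_one,
      hAA, hAJ, hJA, allOne_mul_allOne, smul_add, smul_smul, ← hv]
    match_scalars
    · rw [hΔq]; ring
    · rw [hee]; ring
    · field_simp
      rw [hΔq, hc]; field_simp
      linear_combination (-4 : ℚ) * hid - 4 * (k : ℚ) * hee
  have hF3 : F * F * F = (Δ : ℚ) • F := by
    rw [hFF, add_mul, Matrix.smul_mul, Matrix.smul_mul, Matrix.one_mul, hFJ, smul_zero, add_zero]
  have hτ : ∀ g : G, ∃ z : ℤ, ((e : ℚ) * fixN (H.cp g) + 2 * adjN (H.cp g) - (2 * k + e)) ^ 2 =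
      (Δ : ℚ) * z := by
    intro g
    obtain ⟨z, hz⟩ := trace_sq_int (hcpow g) hΔ0
      (cube_mul_pm hF3 (σ := H.cp g) (by rw [hF]; exact hcomb g _ _ _))
    refine ⟨z, ?_⟩
    rw [hF, trace_comb, hsum] at hz
    rw [pow_two, ← hz, ← hv, ← hcv]; ring
  have hΔsq : IsSquare Δ := by
    by_contra hns
    have h := trace_zero_of_cube (M := F) hΔ0 hns (by rw [pow_succ, pow_two]; exact hF3)
    have h1 := trace_comb A (H.cp (1 : G)) (e : ℚ) 2 (-c)
    rw [← hF, hsum, show H.cp (1 : G) = 1 from Equiv.ext fun i => Subtype.ext (by simp [cp]), pm_one,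
      mul_one, h] at h1
    have e' : H.cp (1 : G) = 1 := Equiv.ext fun i => Subtype.ext (by simp [cp])
    rw [e'] at hfix1
    simp only [fixN] at hfix1 h1
    rw [hfix1.1, hfix1.2, ← hv] at h1
    -- the valency equations
    have hl : k + 2 ≤ Fintype.card D := by
      have hsub : insert u₀ (N u₀) ⊆ Finset.univ.erase v₀ := fun i hi => by
        simp only [Finset.mem_erase, Finset.mem_univ, and_true]
        rintro rfl
        simp only [Finset.mem_insert, N, Finset.mem_filter, Finset.mem_univ, true_and] at hi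
        rcases hi with e | e
        · exact hnc₀ (e ▸ Commute.refl _)
        · exact hnc₀ e.2
      have := Finset.card_le_card hsub
      rw [Finset.card_insert_of_notMem (by simp [N, Adj]), hdeg,
        Finset.card_erase_of_mem (Finset.mem_univ _), Finset.card_univ] at this
      omega
    have h2 : (e : ℚ) * (v - 1) = 2 * k := by linear_combination -h1 + hcv
    have h2' : e * ((Fintype.card D : ℤ) - 1) = 2 * k := by
      rw [hv] at h2; exact_mod_cast h2
    have hl' : (k : ℤ) + 2 ≤ Fintype.card D := by exact_mod_cast hl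
    have hk' : (0 : ℤ) < k := by exact_mod_cast hkpos
    have he1 : e = 1 := by
      rcases lt_trichotomy e 1 with h | h | h
      · nlinarith
      · exact h
      · nlinarith
    rw [he1, one_mul] at h2'
    obtain ⟨z, hz⟩ := hτ (a₀ : G)
    rw [hta.1, hta.2, he1] at hz
    have hz' : (k : ℤ) ^ 2 = Δ * z := by
      have : ((k : ℤ) : ℚ) ^ 2 = ((Δ : ℤ) : ℚ) * z := by push_cast; push_cast at hz; rw [← hz]; ring
      exact_mod_cast this
    have hD : (Fintype.card D : ℤ) ∣ Δ := by
      refine ⟨2 * k + 1 - 4 * mu, ?_⟩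
      have hvk : (Fintype.card D : ℤ) = 2 * k + 1 := by omega
      have hΔz : (Δ : ℤ) = e * e + 4 * ((k : ℤ) - mu) := by
        have : ((Δ : ℤ) : ℚ) = ((e * e + 4 * ((k : ℤ) - mu) : ℤ) : ℚ) := by
          push_cast; exact hΔq
        exact_mod_cast this
      have hidz : (k : ℤ) * k = ((k : ℤ) - mu) - e * k + mu * (Fintype.card D : ℤ) := by
        have : (((k : ℤ) * k : ℤ) : ℚ) =
            ((((k : ℤ) - mu) - e * k + mu * (Fintype.card D : ℤ) : ℤ) : ℚ) := by
          push_cast; rw [← hv]; linear_combination hid - (k : ℚ) * 0 + (k : ℚ) * hee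
        exact_mod_cast this
      rw [hvk, hΔz, he1]
      rw [hvk, he1] at hidz
      linear_combination -4 * hidz
    have hdk : (Fintype.card D : ℤ) ∣ (k : ℤ) ^ 2 := hD.trans ⟨z, hz'⟩
    have hcop : IsCoprime (Fintype.card D : ℤ) ((k : ℤ) ^ 2) :=
      IsCoprime.pow_right ⟨1, -2, by omega⟩
    have := Int.isUnit_iff.mp (hcop.isUnit_of_dvd' dvd_rfl hdk)
    omega
  -- two integral eigenvalues
  obtain ⟨δn, hδn⟩ := hΔsq
  have hδ0 : δn ≠ 0 := by rintro rfl; simp at hδn; exact hΔ0 hδn
  obtain ⟨s, hs⟩ : ∃ s : ℤ, 2 * s = -e - δn := by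
    have hpar : ((δn : ℤ) + e) * ((δn : ℤ) - e) = 4 * ((k : ℤ) - mu) := by
      have : ((((δn : ℤ) + e) * ((δn : ℤ) - e) : ℤ) : ℚ) = ((4 * ((k : ℤ) - mu) : ℤ) : ℚ) := by
        have hΔd : (Δ : ℚ) = (δn : ℚ) * δn := by rw [hδn]; push_cast; ring
        push_cast; linear_combination hΔq - hΔd
      exact_mod_cast this
    rcases Int.even_or_odd ((δn : ℤ) + e) with ⟨t, ht⟩ | ⟨t, ht⟩
    · exact ⟨-t, by omega⟩
    · exfalso
      have : (2 : ℤ) ∣ ((δn : ℤ) + e) * ((δn : ℤ) - e) := by rw [hpar]; exact ⟨2 * (k - mu), by ring⟩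
      rcases Int.prime_two.dvd_or_dvd this with h | h <;> omega
  set δ : ℚ := (δn : ℚ) with hδ
  have hδ' : δ ≠ 0 := by rw [hδ]; exact_mod_cast hδ0
  have hs' : 2 * (s : ℚ) = -(e : ℚ) - δ := by rw [hδ]; exact_mod_cast hs
  set E : Matrix D D ℚ := (1 / 2 : ℚ) • (1 : Matrix D D ℚ) + (1 / (2 * δ)) • F +
    (-(1 / (2 * v))) • (allOne : Matrix D D ℚ) with hE
  have hEE : E * E = E := by
    rw [hE]
    simp only [add_mul, mul_add, Matrix.smul_mul, Matrix.mul_smul, Matrix.one_mul, Matrix.mul_one,
      hFF, hFJ, allOne_mul_allOne, smul_add, smul_smul, ← hv]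
    have hFJ' : F * (allOne : Matrix D D ℚ) = 0 := by
      rw [hF, add_mul, add_mul, Matrix.smul_mul, Matrix.smul_mul, Matrix.smul_mul, hAJ, one_mul,
        allOne_mul_allOne, smul_smul, smul_smul, ← add_smul, ← add_smul, ← hv,
        show (e : ℚ) + 2 * k + -c * v = 0 by linear_combination -hcv, zero_smul]
    rw [hFJ']
    have hΔd : (Δ : ℚ) = δ * δ := by rw [hδ, hδn]; push_cast; ring
    simp only [smul_zero, zero_add, add_zero, hΔd]
    match_scalars <;> field_simp <;> ring
  have hdvd : ∀ g : G, (δn : ℤ) ∣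
      (adjN (H.cp g) : ℤ) - s * fixN (H.cp g) - ((k : ℤ) - s) := by
    intro g
    have hEc : ∀ i j, E (H.cp g i) (H.cp g j) = E i j := by
      intro i j
      rw [hE, hF]
      simp only [Matrix.add_apply, Matrix.smul_apply, hcA, allOne, Matrix.of_apply, Matrix.one_apply,
        (H.cp g).injective.eq_iff]
    obtain ⟨z, hz⟩ := trace_int (hcpow g) (idem_mul_pm hEE hEc)
    have hE' : E = (1 / 2 + (e : ℚ) / (2 * δ)) • (1 : Matrix D D ℚ) + (1 / δ) • A +
        (-(1 / (2 * v)) - c / (2 * δ)) • (allOne : Matrix D D ℚ) := by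
      rw [hE, hF]
      simp only [smul_add, smul_smul]
      match_scalars <;> field_simp <;> ring
    rw [hE', trace_comb, hsum, ← hv] at hz
    refine ⟨z, ?_⟩
    have : (((adjN (H.cp g) : ℤ) - s * fixN (H.cp g) - ((k : ℤ) - s) : ℤ) : ℚ) =
        (((δn : ℤ) * z : ℤ) : ℚ) := by
      push_cast
      rw [← hδ, ← hz, hc]
      field_simp
      linear_combination (1 - (fixN (H.cp g) : ℚ)) * hs'
    exact_mod_cast this
  have ha' := hdvd (a₀ : G)
  have ht' := hdvd ((a₀ : G) * b₀)
  have hg' := hdvd ((u₀ : G) * v₀)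
  rw [hta.1, hta.2] at ha'
  rw [htt.1, htt.2] at ht'
  rw [htc.1, show (adjN (H.cp ((u₀ : G) * v₀)) : ℤ) = (k : ℤ) - mu by omega] at hg'
  have hkrs : (k : ℤ) = mu - (s + δn) * s := by
    have : ((k : ℤ) : ℚ) = (((mu : ℤ) - (s + δn) * s : ℤ) : ℚ) := by
      push_cast
      have hΔd : (Δ : ℚ) = δ * δ := by rw [hδ, hδn]; push_cast; ring
      rw [← hδ]
      linear_combination (1/4 : ℚ) * (hΔd - hΔq) + (1/4 : ℚ) * (2 * (s : ℚ) + δ - e) * hs'
    exact_mod_cast this
  have hz : ∀ t : ℤ, (δn : ℤ) ∣ t → (t : ZMod δn) = 0 := fun t h =>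
    (ZMod.intCast_zmod_eq_zero_iff_dvd t δn).mpr h
  have hδz : ((δn : ℤ) : ZMod δn) = 0 := hz _ dvd_rfl
  have ha2 := hz _ ha'
  have ht2 := hz _ ht'
  have hg2 := hz _ hg'
  have hk2 : ((k : ℤ) : ZMod δn) = (mu : ZMod δn) - s * s := by
    rw [hkrs]; push_cast; push_cast at hδz; rw [hδz]; ring
  have hl2 : ((lam : ℤ) : ZMod δn) = mu + 2 * s := by
    have : (lam : ℤ) = mu + 2 * s + δn := by omega
    rw [this]; push_cast; push_cast at hδz; rw [hδz]; ring
  push_cast at ha2 ht2 hg2 hk2 hl2
  rw [hk2] at ha2 ht2 hg2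
  rw [hl2] at ht2
  have hunit : ((s : ZMod δn) + 1) * (1 - mu) = 1 := by linear_combination hg2
  have hm1 : (mu : ZMod δn) = (s : ZMod δn) * s := by
    linear_combination -(1 - (mu : ZMod δn)) * ha2 - ((mu : ZMod δn) - s * s) * hunit
  have hm2 : (mu : ZMod δn) = -(s : ZMod δn) := by
    linear_combination -(1 - (mu : ZMod δn)) * ht2 - ((mu : ZMod δn) + s) * hunit
  have hs0 : (s : ZMod δn) = 0 := by
    linear_combination (1 - (mu : ZMod δn)) * (hm2 - hm1) - (s : ZMod δn) * hunit
  obtain ⟨i, hi⟩ := (ZMod.intCast_zmod_eq_zero_iff_dvd s δn).mp hs0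
  have hmk' : (mu : ℤ) < k := by exact_mod_cast hmk
  subst hi
  have hpos : (0 : ℤ) < δn := by omega
  have key : (i + 1) * i < 0 := by
    by_contra hh
    push Not at hh
    nlinarith [mul_nonneg hh (mul_nonneg hpos.le hpos.le)]
  rcases le_or_gt 0 i with h | h <;> nlinarith

end Graph

end CfsgLib.RankThreeInv
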